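import Mathlib
import Cfsg.Agent.S0744

/-!
# Livingstone–Wagner (towards S0746): the counting part

(author: helper5; plan by lead and helper8)  `G ≤ Perm α` is `j`-transitive, `(j+1)`- and `(j+2)`-homogeneous and
not `(j+1)`-transitive.  Then the pointwise stabiliser of every `(j+1)`-set is trivial, and with
`h = |G_(j points)|` there is `r ≥ 2` with `r h = n - j`, `r ∣ (j+1)!`, `r (r h - 1) ∣ (j+2)!`; and `h` is odd.
-/

set_option autoImplicit false
set_option linter.unusedVariables false
set_option linter.unusedSectionVars false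
set_option linter.style.haveILetI false
set_option linter.unusedSimpArgs false
set_option maxHeartbeats 1000000

namespace Cfsg.Agent.Lib.Helper5.LW

open MulAction
open scoped Pointwise

variable {α : Type*} [Fintype α] [DecidableEq α] (G : Subgroup (Equiv.Perm α))

/-- conjugate sets have fixing subgroups of the same order -/
theorem card_fixing_smul (g : G) (s : Set α) :
    Nat.card (fixingSubgroup G (g • s)) = Nat.card (fixingSubgroup G s) := by
  rw [SubMulAction.fixingSubgroup_smul_eq_fixingSubgroup_map_conj]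
  exact Nat.card_congr
    ((fixingSubgroup G s).equivMapOfInjective _ (MulAut.conj g).injective).symm.toEquiv

/-- `k`-homogeneous: all `k`-sets have fixing subgroups of the same order -/
theorem card_fixing_eq_of_homog {k : ℕ} (hh : IsPretransitive G (Set.powersetCard α k))
    (s t : Finset α) (hs : s.card = k) (ht : t.card = k) :
    Nat.card (fixingSubgroup G (s : Set α)) = Nat.card (fixingSubgroup G (t : Set α)) := by
  obtain ⟨g, hg⟩ := hh.exists_smul_eq (⟨s, Set.powersetCard.mem_iff.mpr hs⟩ : Set.powersetCard α k)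
    ⟨t, Set.powersetCard.mem_iff.mpr ht⟩
  have h1 : g • s = t := by
    have := congrArg Subtype.val hg
    have e := Set.powersetCard.coe_smul (g := g)
      (s := (⟨s, Set.powersetCard.mem_iff.mpr hs⟩ : Set.powersetCard α k))
    exact e.symm.trans this
  have h2 : g • (s : Set α) = (t : Set α) := by
    rw [← Finset.coe_smul_finset, h1]
  rw [← h2, card_fixing_smul]

/-- `k`-homogeneous: all `k`-sets have setwise stabilisers of the same order, `|G| = C(n,k) |G_Δ|` -/
theorem card_eq_choose_mul_stabilizer {k : ℕ} (hh : IsPretransitive G (Set.powersetCard α k))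
    (s : Finset α) (hs : s.card = k) :
    Nat.card G = (Fintype.card α).choose k * Nat.card (stabilizer G (s : Set α)) := by
  have h1 := index_stabilizer_of_transitive G (⟨s, Set.powersetCard.mem_iff.mpr hs⟩ : Set.powersetCard α k)
  rw [Set.powersetCard.card, Nat.card_eq_fintype_card] at h1
  have h2 : stabilizer G (⟨s, Set.powersetCard.mem_iff.mpr hs⟩ : Set.powersetCard α k)
      = stabilizer G (s : Set α) :=
    Set.powersetCard.stabilizer_coe (G := G)
      (⟨s, Set.powersetCard.mem_iff.mpr hs⟩ : Set.powersetCard α k)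
  rw [h2] at h1
  rw [← h1, mul_comm, Subgroup.card_mul_index]

/-- the setwise stabiliser of a finite set with trivial pointwise stabiliser embeds in its symmetric group -/
theorem card_stabilizer_dvd (s : Finset α) (hs : fixingSubgroup G (s : Set α) = ⊥) :
    Nat.card (stabilizer G (s : Set α)) ∣ (s.card).factorial := by
  have hinj : Function.Injective (MulAction.toPermHom (stabilizer G (s : Set α)) (s : Set α)) := by
    rw [injective_iff_map_eq_one]
    intro g hg
    have : (g : G) ∈ fixingSubgroup G (s : Set α) := by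
      rw [mem_fixingSubgroup_iff]
      intro y hy
      have := congrArg (fun f => (f ⟨y, hy⟩ : α)) hg
      exact this
    rw [hs, Subgroup.mem_bot] at this
    exact Subtype.ext this
  have := Subgroup.card_dvd_of_injective _ hinj
  rw [Nat.card_perm] at this
  have h3 : Nat.card ((s : Set α)) = s.card := by
    rw [Nat.card_coe_set_eq, Set.ncard_coe_finset]
  rwa [h3] at this

section main

variable {G} {j : ℕ}

/-- S0744: in the Livingstone–Wagner situation the pointwise stabiliser of a `(j+1)`-set is trivial -/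
theorem fixing_bot (hnt : ¬ IsMultiplyPretransitive G α (j + 1))
    (hh1 : IsPretransitive G (Set.powersetCard α (j + 1)))
    (hh2 : IsPretransitive G (Set.powersetCard α (j + 2)))
    (hjn : j + 2 ≤ Fintype.card α) (s : Finset α) (hs : s.card = j + 1) :
    fixingSubgroup G (s : Set α) = ⊥ := by
  by_contra hne
  obtain ⟨t₀, -, ht₀⟩ := Finset.exists_subset_card_eq (s := (Finset.univ : Finset α)) (n := j + 2)
    (by rw [Finset.card_univ]; exact hjn)
  have hl : 1 < Nat.card (fixingSubgroup G (s : Set α)) :=
    (Subgroup.one_lt_card_iff_ne_bot _).2 hne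
  have := Cfsg.Agent.S0744.result G (k := j + 2) (by omega) hjn _ _ hl
    (fun s' hs' => card_fixing_eq_of_homog G hh1 s' s (by omega) hs)
    (fun s' hs' => card_fixing_eq_of_homog G hh2 s' t₀ hs' ht₀)
  exact hnt this

/-- `|G| = n (n-1) ⋯ (n-j+1) · |G_(j points)|` -/
theorem card_eq_descFactorial_mul (ht : IsMultiplyPretransitive G α j)
    (s : Finset α) (hs : s.card = j) (hjn : j ≤ Fintype.card α) :
    Nat.card G = (Fintype.card α).descFactorial j * Nat.card (fixingSubgroup G (s : Set α)) := by
  have h1 := ht.index_of_fixingSubgroup_mul (s := (s : Set α))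
    (by rw [Set.ncard_coe_finset, hs])
  rw [Nat.card_eq_fintype_card] at h1
  have h2 := Nat.factorial_mul_descFactorial hjn
  have h3 : (fixingSubgroup G (s : Set α)).index = (Fintype.card α).descFactorial j := by
    apply Nat.eq_of_mul_eq_mul_right (Nat.factorial_pos (Fintype.card α - j))
    rw [h1, ← h2, mul_comm]
  rw [← h3, mul_comm, Subgroup.card_mul_index]

/-- if the pointwise stabilisers of `k`-sets are trivial and `|G|` is the number of injective `k`-tuples,
then `G` is `k`-transitive -/
theorem multiplyPretransitive_of_card {k : ℕ}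
    (hbot : ∀ s : Finset α, s.card = k → fixingSubgroup G (s : Set α) = ⊥)
    (hcard : Nat.card G = (Fintype.card α).descFactorial k) :
    IsMultiplyPretransitive G α k := by
  refine ⟨fun x y => ?_⟩
  have hstab : stabilizer G x = ⊥ := by
    rw [eq_bot_iff]
    intro g hg
    have hmem : g ∈ fixingSubgroup G ((Finset.univ.map x : Finset α) : Set α) := by
      rw [mem_fixingSubgroup_iff]
      intro a ha
      simp only [Finset.coe_map, Finset.coe_univ, Set.image_univ, Set.mem_range] at ha
      obtain ⟨i, rfl⟩ := ha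
      have := congrArg (fun f => f i) (mem_stabilizer_iff.1 hg)
      exact this
    rwa [hbot _ (by rw [Finset.card_map, Finset.card_univ, Fintype.card_fin])] at hmem
  have h1 : (orbit G x).ncard = Nat.card G := by
    have := index_stabilizer G x
    rw [hstab, Subgroup.index_bot] at this
    exact this.symm
  have h2 : orbit G x = Set.univ := by
    apply Set.eq_of_subset_of_ncard_le (Set.subset_univ _)
    rw [h1, hcard, Set.ncard_univ, Nat.card_eq_fintype_card, Fintype.card_embedding_eq,
      Fintype.card_fin]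
  have : y ∈ orbit G x := by rw [h2]; exact Set.mem_univ _
  exact mem_orbit_iff.1 this

end main

section count

variable {G} {j : ℕ}

/-- the counting consequences of the Livingstone–Wagner situation -/
theorem exists_r (ht : IsMultiplyPretransitive G α j)
    (hnt : ¬ IsMultiplyPretransitive G α (j + 1))
    (hh1 : IsPretransitive G (Set.powersetCard α (j + 1)))
    (hh2 : IsPretransitive G (Set.powersetCard α (j + 2)))
    (hjn : j + 2 ≤ Fintype.card α) :
    ∃ r h : ℕ,
      (∀ s : Finset α, s.card = j → Nat.card (fixingSubgroup G (s : Set α)) = h) ∧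
      2 ≤ r ∧ 0 < h ∧ r * h = Fintype.card α - j ∧
      Nat.card G = (Fintype.card α).descFactorial j * h ∧
      (∀ s : Finset α, s.card = j + 1 →
        r * Nat.card (stabilizer G (s : Set α)) = (j + 1).factorial) ∧
      (∀ s : Finset α, s.card = j + 2 →
        r * (r * h - 1) * Nat.card (stabilizer G (s : Set α)) = (j + 2).factorial) := by
  classical
  set n := Fintype.card α with hn
  obtain ⟨s₀, -, hs₀⟩ := Finset.exists_subset_card_eq (s := (Finset.univ : Finset α)) (n := j)
    (by rw [Finset.card_univ]; omega)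
  obtain ⟨s₁, -, hs₁⟩ := Finset.exists_subset_card_eq (s := (Finset.univ : Finset α)) (n := j + 1)
    (by rw [Finset.card_univ]; omega)
  obtain ⟨s₂, -, hs₂⟩ := Finset.exists_subset_card_eq (s := (Finset.univ : Finset α)) (n := j + 2)
    (by rw [Finset.card_univ]; omega)
  have hj : IsPretransitive G (Set.powersetCard α j) :=
    Set.powersetCard.isPretransitive_of_isMultiplyPretransitive G ht
  set h := Nat.card (fixingSubgroup G (s₀ : Set α)) with hh
  have hall : ∀ s : Finset α, s.card = j → Nat.card (fixingSubgroup G (s : Set α)) = h :=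
    fun s hs => card_fixing_eq_of_homog G hj s s₀ hs hs₀
  have hhpos : 0 < h := Nat.card_pos
  set D := n.descFactorial j with hD
  have hDpos : 0 < D := Nat.descFactorial_pos.2 (by omega)
  have hG : Nat.card G = D * h := card_eq_descFactorial_mul ht s₀ hs₀ (by omega)
  set C1 := n.choose (j + 1) with hC1
  set C2 := n.choose (j + 2) with hC2
  have hC1pos : 0 < C1 := Nat.choose_pos (by omega)
  have hC2pos : 0 < C2 := Nat.choose_pos (by omega)
  have hGa : ∀ s : Finset α, s.card = j + 1 →
      Nat.card G = C1 * Nat.card (stabilizer G (s : Set α)) :=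
    fun s hs => card_eq_choose_mul_stabilizer G hh1 s hs
  have hGb : ∀ s : Finset α, s.card = j + 2 →
      Nat.card G = C2 * Nat.card (stabilizer G (s : Set α)) :=
    fun s hs => card_eq_choose_mul_stabilizer G hh2 s hs
  have hbot : ∀ s : Finset α, s.card = j + 1 → fixingSubgroup G (s : Set α) = ⊥ :=
    fun s hs => fixing_bot hnt hh1 hh2 hjn s hs
  have hbot2 : ∀ s : Finset α, s.card = j + 2 → fixingSubgroup G (s : Set α) = ⊥ := by
    intro s hs
    obtain ⟨s', hs's, hs'⟩ := Finset.exists_subset_card_eq (s := s) (n := j + 1) (by omega)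
    rw [eq_bot_iff, ← hbot s' hs']
    exact fixingSubgroup_antitone G α (by exact_mod_cast hs's)
  set a := Nat.card (stabilizer G (s₁ : Set α)) with ha
  set b := Nat.card (stabilizer G (s₂ : Set α)) with hb
  have ha_dvd : a ∣ (j + 1).factorial := by
    have := card_stabilizer_dvd G s₁ (hbot s₁ hs₁)
    rwa [hs₁] at this
  have hb_dvd : b ∣ (j + 2).factorial := by
    have := card_stabilizer_dvd G s₂ (hbot2 s₂ hs₂)
    rwa [hs₂] at this
  obtain ⟨r, hr⟩ := ha_dvd
  obtain ⟨c, hc⟩ := hb_dvd
  -- all stabilisers of `(j+1)`-sets have order `a`, of `(j+2)`-sets order `b`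
  have hall1 : ∀ s : Finset α, s.card = j + 1 → Nat.card (stabilizer G (s : Set α)) = a := by
    intro s hs
    have := (hGa s hs).symm.trans (hGa s₁ hs₁)
    exact Nat.eq_of_mul_eq_mul_left hC1pos this
  have hall2 : ∀ s : Finset α, s.card = j + 2 → Nat.card (stabilizer G (s : Set α)) = b := by
    intro s hs
    have := (hGb s hs).symm.trans (hGb s₂ hs₂)
    exact Nat.eq_of_mul_eq_mul_left hC2pos this
  -- `(n - j) = r h`
  have e1 : (n - j) * D = (r * h) * D := by
    calc (n - j) * D = n.descFactorial (j + 1) := (Nat.descFactorial_succ n j).symm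
      _ = (j + 1).factorial * C1 := Nat.descFactorial_eq_factorial_mul_choose n (j + 1)
      _ = (a * r) * C1 := by rw [hr]
      _ = r * (C1 * a) := by ring
      _ = r * Nat.card G := by rw [← hGa s₁ hs₁]
      _ = (r * h) * D := by rw [hG]; ring
  have hrh : n - j = r * h := Nat.eq_of_mul_eq_mul_right hDpos e1
  -- `c = r (r h - 1)`
  have e2 : (n - (j + 1)) * ((n - j) * D) = c * (D * h) := by
    calc (n - (j + 1)) * ((n - j) * D) = (n - (j + 1)) * n.descFactorial (j + 1) := by
          rw [Nat.descFactorial_succ n j]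
      _ = n.descFactorial (j + 2) := (Nat.descFactorial_succ n (j + 1)).symm
      _ = (j + 2).factorial * C2 := Nat.descFactorial_eq_factorial_mul_choose n (j + 2)
      _ = (b * c) * C2 := by rw [hc]
      _ = c * (C2 * b) := by ring
      _ = c * Nat.card G := by rw [← hGb s₂ hs₂]
      _ = c * (D * h) := by rw [hG]
  have hsub : n - (j + 1) = r * h - 1 := by omega
  have e3 : (r * (r * h - 1)) * (D * h) = c * (D * h) := by
    rw [← e2, hsub, hrh]; ring
  have hcr : r * (r * h - 1) = c :=
    Nat.eq_of_mul_eq_mul_right (Nat.mul_pos hDpos hhpos) e3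
  -- `r ≥ 2`
  have hr0 : r ≠ 0 := by
    rintro rfl
    rw [mul_zero] at hr
    exact (Nat.factorial_pos _).ne' hr
  have hr1 : r ≠ 1 := by
    rintro rfl
    rw [mul_one] at hr
    apply hnt
    apply multiplyPretransitive_of_card hbot
    rw [hGa s₁ hs₁, ← ha, ← hr, Nat.descFactorial_eq_factorial_mul_choose, mul_comm]
  refine ⟨r, h, hall, by omega, hhpos, hrh.symm, hG, ?_, ?_⟩
  · intro s hs
    rw [hall1 s hs, hr, mul_comm]
  · intro s hs
    rw [hall2 s hs, hc, hcr, mul_comm]

end count

section odd

variable {G} {j : ℕ}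

/-- if `h = |G_(j points)|` is even (and `(j+1)`-point stabilisers are trivial), every pair of points outside a
`(j-1)`-set `Θ` is swapped by an element fixing `Θ` pointwise -/
theorem exists_swap_of_even
    (hbot : ∀ s : Finset α, s.card = j + 1 → fixingSubgroup G (s : Set α) = ⊥) {h : ℕ}
    (hh : ∀ s : Finset α, s.card = j → Nat.card (fixingSubgroup G (s : Set α)) = h)
    (heven : Even h) (Θ : Finset α) (hΘ : Θ.card + 1 = j) {y z : α} (hy : y ∉ Θ) (hz : z ∉ Θ) :
    ∃ g : G, g ∈ fixingSubgroup G (Θ : Set α) ∧ g • y = z ∧ g • z = y := by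
  classical
  have hex : ∀ w : α, w ∉ Θ →
      ∃ u : G, u ∈ fixingSubgroup G ((insert w Θ : Finset α) : Set α) ∧ orderOf u = 2 := by
    intro w hw
    have hc := hh (insert w Θ) (by rw [Finset.card_insert_of_notMem hw]; exact hΘ)
    haveI : Fact (Nat.Prime 2) := ⟨Nat.prime_two⟩
    obtain ⟨x, hx⟩ := exists_prime_orderOf_dvd_card' (G := fixingSubgroup G
      ((insert w Θ : Finset α) : Set α)) 2 (by rw [hc]; exact even_iff_two_dvd.1 heven)
    exact ⟨x.1, x.2, by rw [Subgroup.orderOf_coe]; exact hx⟩
  choose! u hu using hex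
  -- basic facts
  have hfixΘ : ∀ w, w ∉ Θ → ∀ a ∈ Θ, u w • a = a := by
    intro w hw a ha
    exact (mem_fixingSubgroup_iff G).1 (hu w hw).1 a (by simp [ha])
  have hfixw : ∀ w, w ∉ Θ → u w • w = w := by
    intro w hw
    exact (mem_fixingSubgroup_iff G).1 (hu w hw).1 w (by simp)
  have hsq : ∀ w, w ∉ Θ → ∀ a : α, u w • (u w • a) = a := by
    intro w hw a
    have h2 : u w ^ 2 = 1 := by rw [← (hu w hw).2]; exact pow_orderOf_eq_one _
    rw [smul_smul, ← pow_two, h2, one_smul]
  have hne1 : ∀ w, w ∉ Θ → u w ≠ 1 := by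
    intro w hw h1
    have := (hu w hw).2
    rw [h1, orderOf_one] at this
    omega
  -- a group element fixing `Θ` and two further points is trivial
  have htriv : ∀ g : G, (∀ a ∈ Θ, g • a = a) → ∀ v w : α, v ∉ Θ → w ∉ Θ → v ≠ w →
      g • v = v → g • w = w → g = 1 := by
    intro g hg v w hv hw hvw hgv hgw
    have hcard : (insert v (insert w Θ)).card = j + 1 := by
      rw [Finset.card_insert_of_notMem (by simp [hvw, hv]), Finset.card_insert_of_notMem hw]
      omega
    have hmem : g ∈ fixingSubgroup G ((insert v (insert w Θ) : Finset α) : Set α) := by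
      rw [mem_fixingSubgroup_iff]
      intro a ha
      simp only [Finset.coe_insert, Set.mem_insert_iff, Finset.mem_coe] at ha
      rcases ha with rfl | rfl | ha
      · exact hgv
      · exact hgw
      · exact hg a ha
    rw [hbot _ hcard, Subgroup.mem_bot] at hmem
    exact hmem
  have hmove : ∀ w, w ∉ Θ → ∀ v, v ∉ Θ → v ≠ w → u w • v ≠ v := by
    intro w hw v hv hvw hfix
    exact hne1 w hw (htriv (u w) (hfixΘ w hw) v w hv hw hvw hfix (hfixw w hw))
  have hnotin : ∀ w, w ∉ Θ → ∀ v, v ∉ Θ → u w • v ∉ Θ := by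
    intro w hw v hv hmem
    have := hfixΘ w hw _ hmem
    rw [hsq w hw] at this
    exact hv (this ▸ hmem)
  -- the map `w ↦ u_w • y` is injective, hence surjective
  let f : {w // w ∉ Θ} → {w // w ∉ Θ} := fun w => ⟨u w.1 • y, hnotin w.1 w.2 y hy⟩
  have hinj : Function.Injective f := by
    intro w w' hww'
    have e : u w.1 • y = u w'.1 • y := congrArg Subtype.val hww'
    apply Subtype.ext
    by_cases hzy : u w.1 • y = y
    · have h1 : y = w.1 := by
        by_contra hne
        exact hmove w.1 w.2 y hy hne hzy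
      have h2 : y = w'.1 := by
        by_contra hne
        exact hmove w'.1 w'.2 y hy hne (e ▸ hzy)
      rw [← h1, ← h2]
    · set z' := u w.1 • y with hz'
      have hz'Θ : z' ∉ Θ := hnotin w.1 w.2 y hy
      have h1 : u w.1 • z' = y := hsq w.1 w.2 y
      have h2 : u w'.1 • z' = y := by rw [e]; exact hsq w'.1 w'.2 y
      have hg : (u w'.1)⁻¹ * u w.1 = 1 := by
        apply htriv _ _ y z' hy hz'Θ (fun h => hzy h.symm)
        · rw [mul_smul, ← hz', e, inv_smul_smul]
        · rw [mul_smul, h1, ← h2, inv_smul_smul]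
        · intro a ha
          rw [mul_smul, hfixΘ w.1 w.2 a ha, inv_smul_eq_iff, hfixΘ w'.1 w'.2 a ha]
      have huu : u w.1 = u w'.1 := by
        have := congrArg (fun t => u w'.1 * t) hg
        simpa using this
      by_contra hne
      exact hmove w.1 w.2 w'.1 w'.2 (fun h => hne h.symm) (by rw [huu]; exact hfixw w'.1 w'.2)
  have hsurj := Finite.injective_iff_surjective.1 hinj
  obtain ⟨w, hw⟩ := hsurj ⟨z, hz⟩
  have hwz : u w.1 • y = z := congrArg Subtype.val hw
  refine ⟨u w.1, ?_, hwz, ?_⟩
  · rw [mem_fixingSubgroup_iff]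
    intro a ha
    exact hfixΘ w.1 w.2 a ha
  · rw [← hwz]; exact hsq w.1 w.2 y

end odd

section odd2

variable {G} {j : ℕ}

/-- `h` even: a transposition of two coordinates of an injective `(j+1)`-tuple is induced by `G` -/
theorem exists_smul_eq_comp_swap
    (hbot : ∀ s : Finset α, s.card = j + 1 → fixingSubgroup G (s : Set α) = ⊥) {h : ℕ}
    (hh : ∀ s : Finset α, s.card = j → Nat.card (fixingSubgroup G (s : Set α)) = h)
    (heven : Even h) (x : Fin (j + 1) ↪ α) (p q : Fin (j + 1)) (hpq : p ≠ q) :
    ∃ g : G, ∀ i, g • x i = x (Equiv.swap p q i) := by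
  classical
  set Θ : Finset α := ((Finset.univ.erase p).erase q).map x with hΘdef
  have hΘcard : Θ.card + 1 = j := by
    rw [hΘdef, Finset.card_map, Finset.card_erase_of_mem (by simp [hpq.symm]),
      Finset.card_erase_of_mem (Finset.mem_univ _), Finset.card_univ, Fintype.card_fin]
    have : 2 ≤ j + 1 := by
      by_contra hlt
      have hj0 : j = 0 := by omega
      subst hj0
      exact hpq (by
        have hp := p.isLt
        have hq := q.isLt
        exact Fin.ext (by omega))
    omega
  have hmemΘ : ∀ i, x i ∈ Θ ↔ i ≠ p ∧ i ≠ q := by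
    intro i
    rw [hΘdef, Finset.mem_map']
    simp only [Finset.mem_erase, Finset.mem_univ, and_true]
    tauto
  have hy : x p ∉ Θ := by rw [hmemΘ]; tauto
  have hz : x q ∉ Θ := by rw [hmemΘ]; tauto
  obtain ⟨g, hgΘ, hgy, hgz⟩ := exists_swap_of_even hbot hh heven Θ hΘcard hy hz
  refine ⟨g, fun i => ?_⟩
  by_cases hip : i = p
  · subst hip; rw [Equiv.swap_apply_left]; exact hgy
  by_cases hiq : i = q
  · subst hiq; rw [Equiv.swap_apply_right]; exact hgz
  · rw [Equiv.swap_apply_of_ne_of_ne hip hiq]
    exact (mem_fixingSubgroup_iff G).1 hgΘ (x i) (by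
      rw [Finset.mem_coe, hmemΘ]; exact ⟨hip, hiq⟩)

/-- `h` even: every permutation of the coordinates of an injective `(j+1)`-tuple is induced by `G` -/
theorem exists_smul_eq_comp_perm
    (hbot : ∀ s : Finset α, s.card = j + 1 → fixingSubgroup G (s : Set α) = ⊥) {h : ℕ}
    (hh : ∀ s : Finset α, s.card = j → Nat.card (fixingSubgroup G (s : Set α)) = h)
    (heven : Even h) (σ : Equiv.Perm (Fin (j + 1))) :
    ∀ x : Fin (j + 1) ↪ α, ∃ g : G, ∀ i, g • x i = x (σ i) := by
  classical
  induction σ using Equiv.Perm.swap_induction_on' with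
  | one => intro x; exact ⟨1, fun i => by simp⟩
  | mul_swap f p q hpq ih =>
    intro x
    obtain ⟨g₂, hg₂⟩ := ih x
    obtain ⟨g₁, hg₁⟩ := exists_smul_eq_comp_swap hbot hh heven (f.toEmbedding.trans x) p q hpq
    refine ⟨g₁ * g₂, fun i => ?_⟩
    rw [mul_smul, hg₂ i]
    have := hg₁ i
    simp only [Function.Embedding.trans_apply, Equiv.coe_toEmbedding] at this
    rw [this, Equiv.Perm.mul_apply]

/-- `h` even and `(j+1)`-homogeneous: `G` is `(j+1)`-transitive -/
theorem multiplyPretransitive_of_even
    (hh1 : IsPretransitive G (Set.powersetCard α (j + 1)))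
    (hbot : ∀ s : Finset α, s.card = j + 1 → fixingSubgroup G (s : Set α) = ⊥) {h : ℕ}
    (hh : ∀ s : Finset α, s.card = j → Nat.card (fixingSubgroup G (s : Set α)) = h)
    (heven : Even h) : IsMultiplyPretransitive G α (j + 1) := by
  classical
  refine ⟨fun x y => ?_⟩
  have hcx : (Finset.univ.map x).card = j + 1 := by
    rw [Finset.card_map, Finset.card_univ, Fintype.card_fin]
  have hcy : (Finset.univ.map y).card = j + 1 := by
    rw [Finset.card_map, Finset.card_univ, Fintype.card_fin]
  obtain ⟨g, hg⟩ := hh1.exists_smul_eq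
    (⟨Finset.univ.map x, Set.powersetCard.mem_iff.mpr hcx⟩ : Set.powersetCard α (j + 1))
    ⟨Finset.univ.map y, Set.powersetCard.mem_iff.mpr hcy⟩
  have h1 : g • (Finset.univ.map x) = Finset.univ.map y := by
    have := congrArg Subtype.val hg
    have e := Set.powersetCard.coe_smul (g := g)
      (s := (⟨Finset.univ.map x, Set.powersetCard.mem_iff.mpr hcx⟩ :
        Set.powersetCard α (j + 1)))
    exact e.symm.trans this
  have h2 : ∀ i, ∃ i', y i' = g • x i := by
    intro i
    have : g • x i ∈ g • (Finset.univ.map x) :=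
      Finset.smul_mem_smul_finset (Finset.mem_map_of_mem _ (Finset.mem_univ i))
    rw [h1, Finset.mem_map] at this
    obtain ⟨i', -, hi'⟩ := this
    exact ⟨i', hi'⟩
  choose f hf using h2
  have hfinj : Function.Injective f := by
    intro i i' hii'
    have : g • x i = g • x i' := by rw [← hf i, ← hf i', hii']
    exact x.injective (smul_left_cancel g this)
  let σ : Equiv.Perm (Fin (j + 1)) :=
    Equiv.ofBijective f ⟨hfinj, Finite.injective_iff_surjective.1 hfinj⟩
  obtain ⟨g', hg'⟩ := exists_smul_eq_comp_perm hbot hh heven σ⁻¹ (g • x)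
  refine ⟨g' * g, ?_⟩
  ext i
  rw [Function.Embedding.smul_apply, mul_smul]
  have := hg' i
  rw [Function.Embedding.smul_apply, Function.Embedding.smul_apply] at this
  rw [this, ← hf (σ⁻¹ i)]
  show y (σ (σ⁻¹ i)) = y i
  simp

end odd2

section final

variable {G} {j : ℕ}

/-- **The counting part of Livingstone–Wagner.**  `G ≤ Perm α` is `j`-transitive, not `(j+1)`-transitive,
`(j+1)`- and `(j+2)`-homogeneous, `j + 2 ≤ n`.  Then with `h = |G_(j points)|` (odd) there is `r ≥ 2` with
`r h = n - j`, `r ∣ (j+1)!`, `r (r h - 1) ∣ (j+2)!`, and `(j+1)`-point stabilisers are trivial. -/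
theorem lw_count (ht : IsMultiplyPretransitive G α j)
    (hnt : ¬ IsMultiplyPretransitive G α (j + 1))
    (hh1 : IsPretransitive G (Set.powersetCard α (j + 1)))
    (hh2 : IsPretransitive G (Set.powersetCard α (j + 2)))
    (hjn : j + 2 ≤ Fintype.card α) :
    ∃ r h : ℕ,
      (∀ s : Finset α, s.card = j → Nat.card (fixingSubgroup G (s : Set α)) = h) ∧
      (∀ s : Finset α, s.card = j + 1 → fixingSubgroup G (s : Set α) = ⊥) ∧
      2 ≤ r ∧ Odd h ∧ r * h = Fintype.card α - j ∧
      r ∣ (j + 1).factorial ∧ r * (r * h - 1) ∣ (j + 2).factorial ∧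
      Nat.card G = (Fintype.card α).descFactorial j * h ∧
      (∀ s : Finset α, s.card = j + 1 →
        r * Nat.card (stabilizer G (s : Set α)) = (j + 1).factorial) ∧
      (∀ s : Finset α, s.card = j + 2 →
        r * (r * h - 1) * Nat.card (stabilizer G (s : Set α)) = (j + 2).factorial) ∧
      (∀ s : Finset α, s.card + 1 = j →
        Nat.card (fixingSubgroup G (s : Set α)) = (r * h + 1) * h) := by
  classical
  obtain ⟨r, h, hall, hr2, hhpos, hrh, hG, hst1, hst2⟩ := exists_r ht hnt hh1 hh2 hjn
  have hbot : ∀ s : Finset α, s.card = j + 1 → fixingSubgroup G (s : Set α) = ⊥ :=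
    fun s hs => fixing_bot hnt hh1 hh2 hjn s hs
  have hodd : Odd h := by
    by_contra hno
    exact hnt (multiplyPretransitive_of_even hh1 hbot hall (Nat.not_odd_iff_even.1 hno))
  obtain ⟨s₁, -, hs₁⟩ := Finset.exists_subset_card_eq (s := (Finset.univ : Finset α)) (n := j + 1)
    (by rw [Finset.card_univ]; omega)
  obtain ⟨s₂, -, hs₂⟩ := Finset.exists_subset_card_eq (s := (Finset.univ : Finset α)) (n := j + 2)
    (by rw [Finset.card_univ]; omega)
  refine ⟨r, h, hall, hbot, hr2, hodd, hrh, Dvd.intro _ (hst1 s₁ hs₁), Dvd.intro _ (hst2 s₂ hs₂),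
    hG, hst1, hst2, ?_⟩
  intro s hs
  have hjpos : 1 ≤ j := by omega
  haveI := ht
  have ht' : IsMultiplyPretransitive G α s.card :=
    isMultiplyPretransitive_of_le (n := j) (by omega)
      (by rw [Nat.card_eq_fintype_card]; omega)
  have hG' := card_eq_descFactorial_mul ht' s rfl (by omega)
  have hsj : j = s.card + 1 := hs.symm
  rw [hG, hsj, Nat.descFactorial_succ] at hG'
  have hD : 0 < (Fintype.card α).descFactorial s.card := Nat.descFactorial_pos.2 (by omega)
  have hn1 : Fintype.card α - s.card = r * h + 1 := by omega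
  rw [hn1] at hG'
  have : (Fintype.card α).descFactorial s.card * ((r * h + 1) * h)
      = (Fintype.card α).descFactorial s.card * Nat.card (fixingSubgroup G (s : Set α)) := by
    rw [← hG']; ring
  exact (Nat.eq_of_mul_eq_mul_left hD this).symm

end final

end Cfsg.Agent.Lib.Helper5.LW
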