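import Mathlib
import Cfsg.Agent.Lib.Helper5.LW.Count

/-!
# Livingstone–Wagner (towards S0745): the case `(r, h) = (2, 3)`, `j ≥ 4`

(author: helper5; argument suggested by helper8)  `G ≤ Perm α` is `j`-transitive on `j + 6` points
(`j ≥ 4`), the pointwise stabilisers of `j`-sets have order `3` and those of `(j+1)`-sets are trivial.
This is impossible: the pointwise stabiliser `L` of a `(j-1)`-set `W` has order `21`, an element `z` of
order `7` of `L` is regular on the `7` points outside `W` and generates a normal subgroup of `L`; two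
elements of `G` inducing `(a b c)` and `(a b)` on three points of `W` and fixing the rest of `W`
normalise `⟨z⟩`, so their commutator centralises `z`, hence equals a power of `z` and fixes `a`.
-/

set_option autoImplicit false
set_option linter.unusedVariables false
set_option linter.unusedSectionVars false
set_option linter.style.haveILetI false
set_option linter.unusedSimpArgs false
set_option maxHeartbeats 1000000

namespace Cfsg.Agent.Lib.Helper5.LW

open MulAction
open scoped Pointwise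

variable {α : Type*} [Fintype α] [DecidableEq α] {G : Subgroup (Equiv.Perm α)} {j : ℕ}

/-- in a group of order `21`, every element with `l ^ 7 = 1` is a power of a given element of order `7` -/
theorem mem_zpowers_of_card_21 {L : Type*} [Group L] (hL : Nat.card L = 21) (z : L)
    (hz : orderOf z = 7) (l : L) (hl : l ^ 7 = 1) : l ∈ Subgroup.zpowers z := by
  have hZcard : Nat.card (Subgroup.zpowers z) = 7 := by rw [Nat.card_zpowers, hz]
  have hZidx : (Subgroup.zpowers z).index = 3 := by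
    have := (Subgroup.zpowers z).card_mul_index
    rw [hZcard, hL] at this
    omega
  haveI hZn : (Subgroup.zpowers z).Normal :=
    Subgroup.normal_of_index_eq_minFac_card (by rw [hZidx, hL]; norm_num)
  rw [← QuotientGroup.eq_one_iff]
  have h7 : ((l : L ⧸ Subgroup.zpowers z)) ^ 7 = 1 := by
    rw [← QuotientGroup.mk_pow, hl]; rfl
  have h3 : ((l : L ⧸ Subgroup.zpowers z)) ^ 3 = 1 := by
    have := pow_card_eq_one' (G := L ⧸ Subgroup.zpowers z) (x := (l : L ⧸ Subgroup.zpowers z))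
    rwa [← Subgroup.index_eq_card, hZidx] at this
  calc (l : L ⧸ Subgroup.zpowers z)
      = (l : L ⧸ Subgroup.zpowers z) ^ 7 * ((l : L ⧸ Subgroup.zpowers z) ^ 3)⁻¹
          * ((l : L ⧸ Subgroup.zpowers z) ^ 3)⁻¹ := by group
    _ = 1 := by rw [h7, h3]; simp

/-- **The case `(r, h) = (2, 3)` of Livingstone–Wagner for `j ≥ 4` does not occur.** -/
theorem kill23 (hj : 4 ≤ j) (ht : IsMultiplyPretransitive G α j)
    (hcard : ∀ u : Finset α, u.card = j → Nat.card (fixingSubgroup G (u : Set α)) = 3)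
    (hbot : ∀ u : Finset α, u.card = j + 1 → fixingSubgroup G (u : Set α) = ⊥)
    (hn : Fintype.card α = j + 6) : False := by
  classical
  obtain ⟨k, rfl⟩ : ∃ k, j = k + 1 := ⟨j - 1, by omega⟩
  have hk : 3 ≤ k := by omega
  haveI := ht
  have ht' : IsMultiplyPretransitive G α k :=
    isMultiplyPretransitive_of_le (n := k + 1) (by omega)
      (by rw [Nat.card_eq_fintype_card]; omega)
  obtain ⟨x⟩ : Nonempty (Fin k ↪ α) :=
    Function.Embedding.nonempty_of_card_le (by rw [Fintype.card_fin]; omega)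
  obtain ⟨W, hW⟩ : ∃ W : Finset α, W = Finset.univ.map x := ⟨_, rfl⟩
  have hWcard : W.card = k := by
    rw [hW, Finset.card_map, Finset.card_univ, Fintype.card_fin]
  have hmemW : ∀ y, y ∈ W ↔ ∃ i, x i = y := by
    intro y; rw [hW]; simp
  have hxW : ∀ i, x i ∈ W := fun i => (hmemW _).2 ⟨i, rfl⟩
  obtain ⟨y₀, hy₀⟩ : ∃ y, y ∉ W := by
    by_contra hno
    push_neg at hno
    have : W = Finset.univ := Finset.eq_univ_iff_forall.2 hno
    rw [this, Finset.card_univ] at hWcard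
    omega
  -- `|L| = 21`
  have hLcard : Nat.card (fixingSubgroup G (W : Set α)) = 21 := by
    have h1 := card_eq_descFactorial_mul ht (insert y₀ W)
      (by rw [Finset.card_insert_of_notMem hy₀, hWcard]) (by omega)
    have h2 := card_eq_descFactorial_mul ht' W hWcard (by omega)
    rw [hcard _ (by rw [Finset.card_insert_of_notMem hy₀, hWcard])] at h1
    rw [h1, Nat.descFactorial_succ] at h2
    have hD : 0 < (Fintype.card α).descFactorial k := Nat.descFactorial_pos.2 (by omega)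
    have h7 : Fintype.card α - k = 7 := by omega
    rw [h7] at h2
    have : (Fintype.card α).descFactorial k * 21
        = (Fintype.card α).descFactorial k * Nat.card (fixingSubgroup G (W : Set α)) := by
      rw [← h2]; ring
    exact (Nat.eq_of_mul_eq_mul_left hD this).symm
  -- elements of `L` fixing a further point have order dividing `3`
  have hB : ∀ p : G, p ∈ fixingSubgroup G (W : Set α) → ∀ y, y ∉ W → p • y = y → p ^ 3 = 1 := by
    intro p hp y hy hpy
    have hmem : p ∈ fixingSubgroup G ((insert y W : Finset α) : Set α) := by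
      rw [mem_fixingSubgroup_iff]
      intro a ha
      rw [Finset.mem_coe, Finset.mem_insert] at ha
      rcases ha with rfl | ha
      · exact hpy
      · exact (mem_fixingSubgroup_iff G).1 hp a (Finset.mem_coe.2 ha)
    have hc := hcard (insert y W) (by rw [Finset.card_insert_of_notMem hy, hWcard])
    have h3 := pow_card_eq_one' (G := fixingSubgroup G ((insert y W : Finset α) : Set α))
      (x := ⟨p, hmem⟩)
    rw [hc] at h3
    have := congrArg Subtype.val h3
    simpa using this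
  -- elements of `L` preserve the complement of `W`
  have hpres : ∀ p : G, p ∈ fixingSubgroup G (W : Set α) → ∀ y, y ∉ W → p • y ∉ W := by
    intro p hp y hy hmem
    have h1 : p • (p • y) = p • y := (mem_fixingSubgroup_iff G).1 hp _ (Finset.mem_coe.2 hmem)
    have h2 : p • y = y := smul_left_cancel _ h1
    rw [h2] at hmem
    exact hy hmem
  -- three indices
  obtain ⟨i0, i1, i2, h01, h02, h12⟩ : ∃ i0 i1 i2 : Fin k, i0 ≠ i1 ∧ i0 ≠ i2 ∧ i1 ≠ i2 :=
    ⟨⟨0, by omega⟩, ⟨1, by omega⟩, ⟨2, by omega⟩, by simp [Fin.ext_iff], by simp [Fin.ext_iff],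
      by simp [Fin.ext_iff]⟩
  -- an element of `G` fixing all points except three is trivial
  have hA : ∀ p : G, (∀ y, y ≠ x i0 → y ≠ x i1 → y ≠ x i2 → p • y = y) → p = 1 := by
    intro p hp
    have hc : k + 1 + 1 ≤ (Finset.univ \ {x i0, x i1, x i2} : Finset α).card := by
      have h1 := Finset.le_card_sdiff ({x i0, x i1, x i2} : Finset α) Finset.univ
      have h2 : ({x i0, x i1, x i2} : Finset α).card ≤ 3 := Finset.card_le_three
      rw [Finset.card_univ] at h1
      omega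
    obtain ⟨s, hss, hsc⟩ := Finset.exists_subset_card_eq hc
    have hmem : p ∈ fixingSubgroup G (s : Set α) := by
      rw [mem_fixingSubgroup_iff]
      intro a ha
      have := hss (Finset.mem_coe.1 ha)
      simp only [Finset.mem_sdiff, Finset.mem_univ, Finset.mem_insert, Finset.mem_singleton,
        true_and, not_or] at this
      exact hp a this.1 this.2.1 this.2.2
    rw [hbot s hsc] at hmem
    exact Subgroup.mem_bot.1 hmem
  -- Cauchy
  haveI : Fact (Nat.Prime 7) := ⟨by norm_num⟩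
  obtain ⟨z, hz⟩ := exists_prime_orderOf_dvd_card' (G := fixingSubgroup G (W : Set α)) 7
    (by rw [hLcard]; norm_num)
  have hzL : (z : G) ∈ fixingSubgroup G (W : Set α) := z.2
  have hzG : orderOf (z : G) = 7 := by rw [Subgroup.orderOf_coe, hz]
  have hzpowL : ∀ i : ℕ, (z : G) ^ i ∈ fixingSubgroup G (W : Set α) :=
    fun i => Subgroup.pow_mem _ hzL i
  -- `⟨z⟩` is regular on the complement of `W`
  have key : ∀ i d : ℕ, ((z : G) ^ (i + d)) • y₀ = ((z : G) ^ i) • y₀ → 0 < d → d < 7 → False := by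
    intro i d h hd hd7
    rw [pow_add, mul_smul] at h
    have h' := smul_left_cancel _ h
    have h3 := hB ((z : G) ^ d) (hzpowL d) y₀ hy₀ h'
    rw [← pow_mul] at h3
    have := orderOf_dvd_of_pow_eq_one h3
    rw [hzG] at this
    omega
  have hinj : Set.InjOn (fun i : ℕ => ((z : G) ^ i) • y₀) (Finset.range 7 : Set ℕ) := by
    intro i hi i' hi' heq
    simp only [Finset.coe_range, Set.mem_Iio] at hi hi'
    by_contra hne
    rcases Nat.lt_or_gt_of_ne hne with h | h
    · obtain ⟨d, rfl⟩ := Nat.exists_eq_add_of_lt h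
      exact key i (d + 1) (by rw [← add_assoc]; exact heq.symm) (by omega) (by omega)
    · obtain ⟨d, rfl⟩ := Nat.exists_eq_add_of_lt h
      exact key i' (d + 1) (by rw [← add_assoc]; exact heq) (by omega) (by omega)
  have himg : (Finset.range 7).image (fun i : ℕ => ((z : G) ^ i) • y₀) = Wᶜ := by
    apply Finset.eq_of_subset_of_card_le
    · intro y hy
      obtain ⟨i, -, rfl⟩ := Finset.mem_image.1 hy
      rw [Finset.mem_compl]
      exact hpres _ (hzpowL i) y₀ hy₀
    · rw [Finset.card_compl, hWcard, hn, Finset.card_image_of_injOn hinj, Finset.card_range]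
      omega
  have hreg : ∀ y, y ∉ W → ∃ i : ℕ, ((z : G) ^ i) • y₀ = y := by
    intro y hy
    have : y ∈ (Finset.range 7).image (fun i : ℕ => ((z : G) ^ i) • y₀) := by
      rw [himg, Finset.mem_compl]; exact hy
    obtain ⟨i, -, hi⟩ := Finset.mem_image.1 this
    exact ⟨i, hi⟩
  -- permutations of the tuple are induced by `G`
  have hgex : ∀ σ : Equiv.Perm (Fin k), ∃ g : G, ∀ i, g • x i = x (σ i) := by
    intro σ
    obtain ⟨g, hg⟩ := MulAction.exists_smul_eq G x (σ.toEmbedding.trans x)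
    refine ⟨g, fun i => ?_⟩
    have := DFunLike.congr_fun hg i
    simpa using this
  have hainv : ∀ (τ : Equiv.Perm (Fin k)) (i : Fin k), τ (τ⁻¹ i) = i :=
    fun τ i => τ.apply_symm_apply i
  -- closure properties of "`p` acts on the tuple as `τ`"
  have hRmul : ∀ (p p' : G) (τ τ' : Equiv.Perm (Fin k)), (∀ i, p • x i = x (τ i)) →
      (∀ i, p' • x i = x (τ' i)) → ∀ i, (p * p') • x i = x ((τ * τ') i) := by
    intro p p' τ τ' h h' i
    rw [mul_smul, h', h, Equiv.Perm.mul_apply]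
  have hRinv : ∀ (p : G) (τ : Equiv.Perm (Fin k)), (∀ i, p • x i = x (τ i)) →
      ∀ i, p⁻¹ • x i = x (τ⁻¹ i) := by
    intro p τ h i
    rw [inv_smul_eq_iff, h, hainv]
  have hRpres : ∀ (p : G) (τ : Equiv.Perm (Fin k)), (∀ i, p • x i = x (τ i)) →
      ∀ y, y ∉ W → p • y ∉ W := by
    intro p τ h y hy hmem
    obtain ⟨i, hi⟩ := (hmemW _).1 hmem
    have h1 : p • x (τ⁻¹ i) = p • y := by rw [h, hainv, hi]
    have h2 := smul_left_cancel _ h1
    exact hy ((hmemW _).2 ⟨_, h2⟩)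
  -- conjugates of `z` by such elements are powers of `z`
  have hconjpow : ∀ (g : G) (σ : Equiv.Perm (Fin k)), (∀ i, g • x i = x (σ i)) →
      ∃ m : ℤ, (z : G) ^ m = g * (z : G) * g⁻¹ := by
    intro g σ hg
    have hgi := hRinv g σ hg
    have hcL : g * (z : G) * g⁻¹ ∈ fixingSubgroup G (W : Set α) := by
      rw [mem_fixingSubgroup_iff]
      intro a ha
      obtain ⟨i, rfl⟩ := (hmemW _).1 (Finset.mem_coe.1 ha)
      rw [mul_smul, mul_smul, hgi,
        (mem_fixingSubgroup_iff G).1 hzL _ (Finset.mem_coe.2 (hxW _)), hg,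
        hainv]
    have hc7 : (⟨g * (z : G) * g⁻¹, hcL⟩ : fixingSubgroup G (W : Set α)) ^ 7 = 1 := by
      apply Subtype.ext
      rw [Subgroup.coe_pow, Subgroup.coe_one]
      show (g * (z : G) * g⁻¹) ^ 7 = 1
      rw [conj_pow, ← hzG, pow_orderOf_eq_one]
      group
    have := mem_zpowers_of_card_21 hLcard z hz _ hc7
    obtain ⟨m, hm⟩ := Subgroup.mem_zpowers_iff.1 this
    refine ⟨m, ?_⟩
    have := congrArg Subtype.val hm
    simpa using this
  have hconj : ∀ (g g' : G) (m m' : ℤ), (z : G) ^ m = g * (z : G) * g⁻¹ →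
      (z : G) ^ m' = g' * (z : G) * g'⁻¹ →
      g * g' * (z : G) * (g * g')⁻¹ = (z : G) ^ (m * m') := by
    intro g g' m m' h h'
    calc g * g' * (z : G) * (g * g')⁻¹ = g * (g' * (z : G) * g'⁻¹) * g⁻¹ := by group
      _ = g * (z : G) ^ m' * g⁻¹ := by rw [h']
      _ = (g * (z : G) * g⁻¹) ^ m' := by rw [conj_zpow]
      _ = ((z : G) ^ m) ^ m' := by rw [h]
      _ = (z : G) ^ (m * m') := by rw [zpow_mul]
  -- the two permutations
  obtain ⟨σ₁, hσ₁0, hσ₁1, hσ₁2, hσ₁⟩ : ∃ σ : Equiv.Perm (Fin k), σ i0 = i1 ∧ σ i1 = i2 ∧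
      σ i2 = i0 ∧ ∀ i, i ≠ i0 → i ≠ i1 → i ≠ i2 → σ i = i := by
    refine ⟨Equiv.swap i0 i1 * Equiv.swap i1 i2, ?_, ?_, ?_, ?_⟩
    · rw [Equiv.Perm.mul_apply, Equiv.swap_apply_of_ne_of_ne h01 h02, Equiv.swap_apply_left]
    · rw [Equiv.Perm.mul_apply, Equiv.swap_apply_left,
        Equiv.swap_apply_of_ne_of_ne h02.symm h12.symm]
    · rw [Equiv.Perm.mul_apply, Equiv.swap_apply_right, Equiv.swap_apply_right]
    · intro i hi0 hi1 hi2
      rw [Equiv.Perm.mul_apply, Equiv.swap_apply_of_ne_of_ne hi1 hi2,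
        Equiv.swap_apply_of_ne_of_ne hi0 hi1]
  obtain ⟨σ₂, hσ₂0, hσ₂1, hσ₂2, hσ₂⟩ : ∃ σ : Equiv.Perm (Fin k), σ i0 = i1 ∧ σ i1 = i0 ∧
      σ i2 = i2 ∧ ∀ i, i ≠ i0 → i ≠ i1 → i ≠ i2 → σ i = i := by
    refine ⟨Equiv.swap i0 i1, ?_, ?_, ?_, ?_⟩
    · rw [Equiv.swap_apply_left]
    · rw [Equiv.swap_apply_right]
    · rw [Equiv.swap_apply_of_ne_of_ne h02.symm h12.symm]
    · intro i hi0 hi1 hi2
      rw [Equiv.swap_apply_of_ne_of_ne hi0 hi1]
  obtain ⟨g₁, hg₁⟩ := hgex σ₁
  obtain ⟨g₂, hg₂⟩ := hgex σ₂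
  obtain ⟨m₁, hm₁⟩ := hconjpow g₁ σ₁ hg₁
  obtain ⟨m₂, hm₂⟩ := hconjpow g₂ σ₂ hg₂
  have hE : g₁ * g₂ * (z : G) * (g₁ * g₂)⁻¹ = g₂ * g₁ * (z : G) * (g₂ * g₁)⁻¹ := by
    rw [hconj g₁ g₂ m₁ m₂ hm₁ hm₂, hconj g₂ g₁ m₂ m₁ hm₂ hm₁, mul_comm]
  -- the commutator
  obtain ⟨cm, hcmdef⟩ : ∃ cm : G, cm = (g₂ * g₁)⁻¹ * (g₁ * g₂) := ⟨_, rfl⟩
  have hcomm : cm * (z : G) = (z : G) * cm := by
    have h1 : cm * (z : G)
        = (g₂ * g₁)⁻¹ * (g₁ * g₂ * (z : G) * (g₁ * g₂)⁻¹) * (g₁ * g₂) := by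
      rw [hcmdef]; group
    have h2 : (z : G) * cm
        = (g₂ * g₁)⁻¹ * (g₂ * g₁ * (z : G) * (g₂ * g₁)⁻¹) * (g₁ * g₂) := by
      rw [hcmdef]; group
    rw [h1, h2, hE]
  have hcmR : ∀ i, cm • x i = x (((σ₂ * σ₁)⁻¹ * (σ₁ * σ₂)) i) := by
    rw [hcmdef]
    exact hRmul _ _ _ _ (hRinv _ _ (hRmul _ _ _ _ hg₂ hg₁)) (hRmul _ _ _ _ hg₁ hg₂)
  have hτ0 : ((σ₂ * σ₁)⁻¹ * (σ₁ * σ₂)) i0 = i1 := by
    rw [Equiv.Perm.mul_apply, Equiv.Perm.inv_eq_iff_eq, Equiv.Perm.mul_apply,
      Equiv.Perm.mul_apply, hσ₂0, hσ₁1, hσ₂2]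
  have hτ : ∀ i, i ≠ i0 → i ≠ i1 → i ≠ i2 → ((σ₂ * σ₁)⁻¹ * (σ₁ * σ₂)) i = i := by
    intro i hi0 hi1 hi2
    rw [Equiv.Perm.mul_apply, Equiv.Perm.inv_eq_iff_eq, Equiv.Perm.mul_apply,
      Equiv.Perm.mul_apply, hσ₂ i hi0 hi1 hi2, hσ₁ i hi0 hi1 hi2, hσ₂ i hi0 hi1 hi2]
  have hcm0 : cm • x i0 = x i1 := by rw [hcmR, hτ0]
  -- `cm` agrees with a power of `z` outside `W`
  have hcmy₀ : cm • y₀ ∉ W := hRpres cm _ hcmR y₀ hy₀
  obtain ⟨e, he⟩ := hreg _ hcmy₀
  have hcommpow : ∀ l : ℕ, cm * (z : G) ^ l = (z : G) ^ l * cm := by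
    intro l
    exact (Commute.pow_right (show Commute cm (z : G) from hcomm) l).eq
  have hq : ((z : G) ^ e)⁻¹ * cm = 1 := by
    apply hA
    intro y hy0 hy1 hy2
    rw [mul_smul, inv_smul_eq_iff]
    by_cases hyW : y ∈ W
    · obtain ⟨i, rfl⟩ := (hmemW _).1 hyW
      have hi0 : i ≠ i0 := fun h => hy0 (by rw [h])
      have hi1 : i ≠ i1 := fun h => hy1 (by rw [h])
      have hi2 : i ≠ i2 := fun h => hy2 (by rw [h])
      rw [hcmR, hτ i hi0 hi1 hi2]
      exact ((mem_fixingSubgroup_iff G).1 (hzpowL e) _ (Finset.mem_coe.2 (hxW i))).symm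
    · obtain ⟨l, rfl⟩ := hreg y hyW
      rw [← mul_smul, hcommpow, mul_smul, ← he, ← mul_smul, ← mul_smul, ← pow_add, ← pow_add,
        add_comm]
  have hcme : cm = (z : G) ^ e := by
    have := congrArg (fun t => (z : G) ^ e * t) hq
    simpa using this
  have : cm • x i0 = x i0 := by
    rw [hcme]
    exact (mem_fixingSubgroup_iff G).1 (hzpowL e) _ (Finset.mem_coe.2 (hxW i0))
  rw [hcm0] at this
  exact h01 (x.injective this).symm

end Cfsg.Agent.Lib.Helper5.LW
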