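import Mathlib

/-!
# Livingstone–Wagner (towards S0745): no sharply `6`-transitive group on `13` points

(author: helper5)  A group of order `13·12·11·10·9·8 = 1235520` has no faithful action on `13` points:
a Sylow `13`-subgroup `P` has order `13` and is regular, so `C(P) = P` and `|N(P)| = 13 d` with `d ∣ 12`;
the number `95040 / d` of Sylow `13`-subgroups is never `≡ 1 (mod 13)`.
-/

set_option autoImplicit false
set_option linter.unusedVariables false
set_option linter.unusedSectionVars false
set_option linter.style.haveILetI false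
set_option linter.unusedSimpArgs false
set_option maxHeartbeats 1000000

namespace Cfsg.Agent.Lib.Helper5.LW

open MulAction

/-- a group of order `13·12·11·10·9·8` has no faithful action on `13` points -/
theorem no_faithful_13 {T Ξ : Type*} [Group T] [MulAction T Ξ] [FaithfulSMul T Ξ] [Fintype Ξ]
    (hΞ : Fintype.card Ξ = 13) (hT : Nat.card T = 1235520) : False := by
  classical
  haveI : Finite T := Nat.finite_of_card_ne_zero (by rw [hT]; norm_num)
  haveI : Fact (Nat.Prime 13) := ⟨by norm_num⟩
  obtain ⟨P⟩ : Nonempty (Sylow 13 T) := inferInstance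
  have hPcard : Nat.card P = 13 := by
    obtain ⟨n, hn⟩ := P.2.exists_card_eq
    have h13 : 13 ∣ Nat.card P := P.dvd_card_of_dvd_card (by rw [hT]; norm_num)
    have hdvd : Nat.card P ∣ Nat.card T := Subgroup.card_subgroup_dvd_card _
    rw [hn] at h13 hdvd ⊢
    rw [hT] at hdvd
    rcases n with _ | _ | n
    · norm_num at h13
    · norm_num
    · exfalso
      have : 13 ^ 2 ∣ 1235520 := dvd_trans (pow_dvd_pow 13 (by omega)) hdvd
      norm_num at this
  haveI hcyc : IsCyclic P := isCyclic_of_prime_card hPcard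
  obtain ⟨z, hz⟩ := IsCyclic.exists_generator (α := P)
  have hzord : orderOf z = 13 := by rw [orderOf_eq_card_of_forall_mem_zpowers hz, hPcard]
  have hzT : orderOf (z : T) = 13 := by rw [Subgroup.orderOf_coe, hzord]
  -- every element of `P` is a power of `z`
  have hPz : ∀ p : T, p ∈ (P : Subgroup T) → ∃ m : ℤ, (z : T) ^ m = p := by
    intro p hp
    obtain ⟨m, hm⟩ := Subgroup.mem_zpowers_iff.1 (hz ⟨p, hp⟩)
    refine ⟨m, ?_⟩
    have := congrArg Subtype.val hm
    simpa using this
  -- a point moved by `z`
  obtain ⟨y₀, hy₀⟩ : ∃ y : Ξ, (z : T) • y ≠ y := by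
    by_contra hno
    push_neg at hno
    have : (z : T) = 1 := FaithfulSMul.eq_of_smul_eq_smul (α := Ξ) (fun y => by rw [hno y, one_smul])
    rw [this, orderOf_one] at hzT
    omega
  -- `P` is transitive
  have horb : orbit (P : Subgroup T) y₀ = Set.univ := by
    have h1 : (orbit (P : Subgroup T) y₀).ncard ∣ 13 := by
      have h := Subgroup.index_dvd_card (stabilizer (P : Subgroup T) y₀)
      rw [hPcard, index_stabilizer] at h
      exact h
    have h2 : (orbit (P : Subgroup T) y₀).ncard ≠ 1 := by
      intro h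
      obtain ⟨a, ha⟩ := Set.ncard_eq_one.1 h
      have e1 : y₀ ∈ orbit (P : Subgroup T) y₀ := mem_orbit_self y₀
      have e2 : (z : T) • y₀ ∈ orbit (P : Subgroup T) y₀ := ⟨z, rfl⟩
      rw [ha, Set.mem_singleton_iff] at e1 e2
      exact hy₀ (e2.trans e1.symm)
    have h3 : (orbit (P : Subgroup T) y₀).ncard = 13 := by
      rcases (Nat.dvd_prime (by norm_num : Nat.Prime 13)).1 h1 with h | h
      · exact absurd h h2
      · exact h
    apply Set.eq_of_subset_of_ncard_le (Set.subset_univ _)
    rw [h3, Set.ncard_univ, Nat.card_eq_fintype_card, hΞ]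
  have htrans : ∀ y : Ξ, ∃ p : T, p ∈ (P : Subgroup T) ∧ p • y₀ = y := by
    intro y
    have : y ∈ orbit (P : Subgroup T) y₀ := by rw [horb]; exact Set.mem_univ y
    obtain ⟨p, hp⟩ := this
    exact ⟨p, p.2, hp⟩
  -- `C(P) ≤ P`
  have hC : Subgroup.centralizer ((P : Subgroup T) : Set T) ≤ (P : Subgroup T) := by
    intro g hg
    rw [Subgroup.mem_centralizer_iff] at hg
    obtain ⟨p₀, hp₀, hp₀y⟩ := htrans (g • y₀)
    have hq : p₀⁻¹ * g = 1 := by
      apply FaithfulSMul.eq_of_smul_eq_smul (α := Ξ)
      intro y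
      obtain ⟨p, hp, rfl⟩ := htrans y
      obtain ⟨m, rfl⟩ := hPz p hp
      obtain ⟨m₀, rfl⟩ := hPz p₀ hp₀
      rw [one_smul, mul_smul, inv_smul_eq_iff, ← mul_smul, ← hg _ hp, mul_smul, ← hp₀y,
        ← mul_smul, ← mul_smul, zpow_mul_comm]
    have : g = p₀ := by
      have := congrArg (fun t => p₀ * t) hq
      simpa using this
    rw [this]; exact hp₀
  -- `|N(P) : P|` divides `12`
  have key := Subgroup.card_dvd_of_injective _
    (QuotientGroup.kerLift_injective (P : Subgroup T).normalizerMonoidHom)
  rw [Subgroup.normalizerMonoidHom_ker, ← Subgroup.index, ← Subgroup.relIndex,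
    IsCyclic.card_mulAut, hPcard, Nat.totient_prime (by norm_num : Nat.Prime 13)] at key
  have hd : (P : Subgroup T).relIndex (Subgroup.normalizer ((P : Subgroup T) : Set T)) ∣ 12 :=
    dvd_trans (Subgroup.relIndex_dvd_of_le_left _ hC) key
  have h1 := Subgroup.relIndex_mul_index (Subgroup.le_normalizer (H := (P : Subgroup T)))
  have h2 := (P : Subgroup T).card_mul_index
  have h3 := card_sylow_modEq_one 13 T
  rw [Sylow.card_eq_index_normalizer P] at h3
  rw [hPcard, hT] at h2
  have hidx : (P : Subgroup T).index = 95040 := by omega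
  rw [hidx] at h1
  have hdle : (P : Subgroup T).relIndex (Subgroup.normalizer ((P : Subgroup T) : Set T)) ≤ 12 :=
    Nat.le_of_dvd (by norm_num) hd
  unfold Nat.ModEq at h3
  generalize (P : Subgroup T).relIndex (Subgroup.normalizer ((P : Subgroup T) : Set T)) = d at *
  generalize (Subgroup.normalizer ((P : Subgroup T) : Set T)).index = n at *
  interval_cases d <;> omega

end Cfsg.Agent.Lib.Helper5.LW
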