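import Mathlib
import Cfsg.Agent.Lib.Helper5.LW.Count
import Cfsg.Agent.Lib.Helper5.LW.Sylow13
import Cfsg.Agent.Lib.Lead.LWGlue

/-!
# Livingstone–Wagner (towards S0745): the case `(r, h) = (7, 1)`, `j ≥ 6`

(author: helper5)  `G ≤ Perm α` is `j`-transitive on `j + 7` points (`j ≥ 6`) with trivial pointwise
stabilisers of `j`-sets.  Then the pointwise stabiliser of a `(j-6)`-set is a group of order
`13·12·11·10·9·8` acting faithfully on `13` points, which is impossible (`no_faithful_13`).
-/

set_option autoImplicit false
set_option linter.unusedVariables false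
set_option linter.unusedSectionVars false
set_option linter.style.haveILetI false
set_option linter.unusedSimpArgs false
set_option maxHeartbeats 1000000

namespace Cfsg.Agent.Lib.Helper5.LW

open MulAction SubMulAction Cfsg.Agent.Lib.Lead.LWGlue

variable {α : Type*} [Fintype α] [DecidableEq α] {G : Subgroup (Equiv.Perm α)} {j : ℕ}

/-- **The case `(r, h) = (7, 1)` of Livingstone–Wagner for `j ≥ 6` does not occur.** -/
theorem kill71 (hj : 6 ≤ j) (ht : IsMultiplyPretransitive G α j)
    (hcard : ∀ u : Finset α, u.card = j → Nat.card (fixingSubgroup G (u : Set α)) = 1)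
    (hn : Fintype.card α = j + 7) : False := by
  classical
  obtain ⟨s, -, hs⟩ := Finset.exists_subset_card_eq (s := (Finset.univ : Finset α)) (n := j - 6)
    (by rw [Finset.card_univ]; omega)
  obtain ⟨u, -, hu⟩ := Finset.exists_subset_card_eq (s := (Finset.univ : Finset α)) (n := j)
    (by rw [Finset.card_univ]; omega)
  haveI := ht
  have ht' : IsMultiplyPretransitive G α s.card :=
    isMultiplyPretransitive_of_le (n := j) (by omega) (by rw [Nat.card_eq_fintype_card]; omega)
  have h1 := card_eq_descFactorial_mul ht u hu (by omega)
  have h2 := card_eq_descFactorial_mul ht' s rfl (by omega)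
  rw [hcard u hu, mul_one] at h1
  have f1 := Nat.factorial_mul_descFactorial (n := Fintype.card α) (k := j) (by omega)
  have f2 := Nat.factorial_mul_descFactorial (n := Fintype.card α) (k := s.card) (by omega)
  have e1 : Fintype.card α - j = 7 := by omega
  have e2 : Fintype.card α - s.card = 13 := by omega
  rw [e1] at f1
  rw [e2] at f2
  have hT : Nat.card (fixingSubgroup G (s : Set α)) = 1235520 := by
    have hD : 0 < (Fintype.card α).descFactorial s.card := Nat.descFactorial_pos.2 (by omega)
    have h13 : Nat.factorial 13 = Nat.factorial 7 * 1235520 := by decide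
    have h7 : 0 < Nat.factorial 7 := Nat.factorial_pos 7
    have key : (Nat.factorial 7 * (Fintype.card α).descFactorial s.card)
          * Nat.card (fixingSubgroup G (s : Set α))
        = (Nat.factorial 7 * (Fintype.card α).descFactorial s.card) * 1235520 := by
      calc (Nat.factorial 7 * (Fintype.card α).descFactorial s.card)
              * Nat.card (fixingSubgroup G (s : Set α))
          = Nat.factorial 7 * ((Fintype.card α).descFactorial s.card
              * Nat.card (fixingSubgroup G (s : Set α))) := by ring
        _ = Nat.factorial 7 * (Fintype.card α).descFactorial j := by rw [← h2, h1]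
        _ = Nat.factorial 13 * (Fintype.card α).descFactorial s.card := by rw [f1, f2]
        _ = (Nat.factorial 7 * (Fintype.card α).descFactorial s.card) * 1235520 := by
            rw [h13]; ring
    exact Nat.eq_of_mul_eq_mul_left (Nat.mul_pos h7 hD) key
  haveI := faithful_ofFixingSubgroup G s
  have hΞ : Nat.card (ofFixingSubgroup G (s : Set α)) = 13 := by
    rw [card_ofFixingSubgroup]; omega
  haveI : Fintype (ofFixingSubgroup G (s : Set α)) := Fintype.ofFinite _
  exact no_faithful_13 (T := fixingSubgroup G (s : Set α)) (Ξ := ofFixingSubgroup G (s : Set α))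
    (by rw [← Nat.card_eq_fintype_card]; exact hΞ) hT

end Cfsg.Agent.Lib.Helper5.LW
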