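import Mathlib
import Cfsg.Agent.Lib.Lead.LWGlue
import Cfsg.Agent.Lib.Lead.Hall4D

/-!
# Livingstone–Wagner (towards S0745): `h = 1`, `j ≥ 4` forces `n = j + 2` or `n = j + 7`

(author: helper5)  `G ≤ Perm α` is sharply `j`-transitive (`j ≥ 4`) on `n ≥ j + 3` points.  Then the
pointwise stabiliser of a `(j-4)`-set is sharply `4`-transitive on `n - j + 4 ≥ 7` points, and lead's
`hall_main` gives `n - j + 4 = 11` (the alternative `= 7` needs `3 ∣ 1`).
-/

set_option autoImplicit false
set_option linter.unusedVariables false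
set_option linter.unusedSectionVars false
set_option linter.style.haveILetI false
set_option linter.unusedSimpArgs false
set_option maxHeartbeats 1000000

namespace Cfsg.Agent.Lib.Helper5.LW

open MulAction SubMulAction Cfsg.Agent.Lib.Lead.LWGlue

variable {α : Type*} [Fintype α] [DecidableEq α] {G : Subgroup (Equiv.Perm α)} {j : ℕ}

/-- **Sharply `j`-transitive, `j ≥ 4`, on `n ≥ j + 3` points: `n = j + 7`.** -/
theorem kill_sharp (hj : 4 ≤ j) (ht : IsMultiplyPretransitive G α j)
    (hcard : ∀ u : Finset α, u.card = j → Nat.card (fixingSubgroup G (u : Set α)) = 1)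
    (hn7 : j + 3 ≤ Fintype.card α) (hn11 : Fintype.card α ≠ j + 7) : False := by
  classical
  obtain ⟨s, -, hs⟩ := Finset.exists_subset_card_eq (s := (Finset.univ : Finset α)) (n := j - 4)
    (by rw [Finset.card_univ]; omega)
  have hs4 : s.card + 4 = j := by omega
  have h4 : IsMultiplyPretransitive (fixingSubgroup G (s : Set α))
      (ofFixingSubgroup G (s : Set α)) 4 :=
    ofFixingSubgroup.isMultiplyPretransitive (G := G) (Hn := ht) (s : Set α)
      (by rw [Set.ncard_coe_finset]; exact hs4)
  have hsharp : ∀ (g : fixingSubgroup G (s : Set α)) (x : Fin 4 ↪ ofFixingSubgroup G (s : Set α)),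
      (∀ i, g • x i = x i) → g = 1 := by
    intro g x hfix
    obtain ⟨u, hu, hgu⟩ := exists_finset_of_fix G s g x hfix
    have h1 := hcard u (by omega)
    rw [Subgroup.card_eq_one] at h1
    rw [h1, Subgroup.mem_bot] at hgu
    exact Subtype.ext hgu
  haveI := faithful_ofFixingSubgroup G s
  haveI : Fintype (ofFixingSubgroup G (s : Set α)) := Fintype.ofFinite _
  have hΞ : Fintype.card (ofFixingSubgroup G (s : Set α)) = Fintype.card α - s.card := by
    rw [← Nat.card_eq_fintype_card, card_ofFixingSubgroup]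
  obtain ⟨x⟩ : Nonempty (Fin 4 ↪ ofFixingSubgroup G (s : Set α)) :=
    Function.Embedding.nonempty_of_card_le (by rw [Fintype.card_fin, hΞ]; omega)
  have hmain := Cfsg.Agent.Lib.Lead.Hall4.hall_main (T := fixingSubgroup G (s : Set α))
    (Ξ := ofFixingSubgroup G (s : Set α)) h4 (fun g x hfix _ => hsharp g x hfix)
    (by rw [hΞ]; omega)
    (fun g hg => FaithfulSMul.eq_of_smul_eq_smul (α := ofFixingSubgroup G (s : Set α))
      (fun a => by rw [hg a, one_smul])) x
  rcases hmain with ⟨hN, h3⟩ | ⟨hN, -⟩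
  · have hone : Nat.card {g : fixingSubgroup G (s : Set α) // ∀ i, g • x i = x i} = 1 := by
      rw [Nat.card_eq_one_iff_unique]
      refine ⟨⟨fun a b => ?_⟩, ⟨⟨1, fun i => one_smul _ _⟩⟩⟩
      apply Subtype.ext
      rw [hsharp a.1 x a.2, hsharp b.1 x b.2]
    rw [hone] at h3
    omega
  · rw [hΞ] at hN
    omega

end Cfsg.Agent.Lib.Helper5.LW
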