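import Mathlib
import Cfsg.Agent.Lib.Lead.Swap

/-!
# Livingstone–Wagner (S0747 / S0748): all transpositions of a set from a 2-part gap

(author: helper5; swap lemma by lead)  If the 2-part of the order of the pointwise stabiliser of a
`(j+2)`-set `D` is maximal among `(j+2)`-sets and smaller than the 2-part for every `(j+1)`-set, then every
transposition of `D` is induced by an element of `G`, hence every permutation of `D`.
-/

set_option autoImplicit false
set_option linter.unusedVariables false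
set_option linter.unusedSectionVars false
set_option linter.style.haveILetI false
set_option linter.unusedSimpArgs false
set_option maxHeartbeats 1000000

namespace Cfsg.Agent.Lib.Helper5.LW

open MulAction
open scoped Pointwise

variable {α : Type*} [Fintype α] [DecidableEq α] (G : Subgroup (Equiv.Perm α))

/-- the pointwise stabiliser of a finite set, as a subgroup of `Perm α` -/
def Fx (S : Finset α) : Subgroup (Equiv.Perm α) := (fixingSubgroup G (S : Set α)).map G.subtype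

theorem mem_Fx {S : Finset α} {g : Equiv.Perm α} : g ∈ Fx G S ↔ g ∈ G ∧ ∀ x ∈ S, g x = x := by
  unfold Fx
  constructor
  · rintro ⟨h, hh, rfl⟩
    refine ⟨h.2, fun x hx => ?_⟩
    have := (mem_fixingSubgroup_iff G).mp hh x (by exact_mod_cast hx)
    exact this
  · rintro ⟨hg, hfix⟩
    refine ⟨⟨g, hg⟩, ?_, rfl⟩
    rw [SetLike.mem_coe, mem_fixingSubgroup_iff]
    intro y hy
    exact hfix y (by exact_mod_cast hy)

theorem card_Fx (S : Finset α) : Nat.card (Fx G S) = Nat.card (fixingSubgroup G (S : Set α)) :=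
  Subgroup.card_map_of_injective G.subtype_injective

theorem card_dvd_two_pow {R : Subgroup (Equiv.Perm α)} (hR : IsPGroup 2 R) {N : ℕ} (hN : N ≠ 0)
    (h : Nat.card R ∣ N) : Nat.card R ∣ 2 ^ N.factorization 2 := by
  haveI : Fact (Nat.Prime 2) := ⟨Nat.prime_two⟩
  obtain ⟨m, hm⟩ := hR.exists_card_eq
  rw [hm] at h ⊢
  exact pow_dvd_pow 2 ((Nat.prime_two.pow_dvd_iff_le_factorization hN).mp h)

/-- a Sylow 2-subgroup of the pointwise stabiliser of `S`, inside `Perm α` -/
theorem card_sylow_Fx (S : Finset α) (P : Sylow 2 (Fx G S)) :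
    Nat.card ((P : Subgroup (Fx G S)).map (Fx G S).subtype) =
      2 ^ (Nat.card (fixingSubgroup G (S : Set α))).factorization 2 := by
  haveI : Fact (Nat.Prime 2) := ⟨Nat.prime_two⟩
  rw [Subgroup.card_map_of_injective (Subgroup.subtype_injective _), P.card_eq_multiplicity, card_Fx]

theorem swap_all (j : ℕ) (D : Finset α) (hD : D.card = j + 2)
    (hmax : ∀ D' : Finset α, D'.card = j + 2 →
      (Nat.card (fixingSubgroup G (D' : Set α))).factorization 2 ≤
        (Nat.card (fixingSubgroup G (D : Set α))).factorization 2)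
    (hgap : ∀ S : Finset α, S.card = j + 1 →
      (Nat.card (fixingSubgroup G (D : Set α))).factorization 2 <
        (Nat.card (fixingSubgroup G (S : Set α))).factorization 2) :
    ∀ a ∈ D, ∀ b ∈ D, a ≠ b →
      ∃ g ∈ G, (∀ x ∈ D, x ≠ a → x ≠ b → g x = x) ∧ g a = b ∧ g b = a := by
  classical
  haveI : Fact (Nat.Prime 2) := ⟨Nat.prime_two⟩
  intro a ha b hb hab
  obtain ⟨P⟩ : Nonempty (Sylow 2 (Fx G D)) := inferInstance
  set Q : Subgroup (Equiv.Perm α) := (P : Subgroup (Fx G D)).map (Fx G D).subtype with hQ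
  have hQcard : Nat.card Q = 2 ^ (Nat.card (fixingSubgroup G (D : Set α))).factorization 2 :=
    card_sylow_Fx G D P
  have hQF : Q ≤ Fx G D := by
    rw [hQ]; exact Subgroup.map_subtype_le _
  have hQG : Q ≤ G := fun q hq => ((mem_Fx G).mp (hQF hq)).1
  have hQ2 : IsPGroup 2 Q := P.2.map _
  set Φ : Finset α := Finset.univ.filter (fun x => ∀ q ∈ Q, q x = x) with hΦdef
  have hΦ : ∀ x, x ∈ Φ ↔ ∀ q ∈ Q, q x = x := by
    intro x; simp [hΦdef]
  have hDΦ : D ⊆ Φ := by
    intro x hx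
    rw [hΦ]
    intro q hq
    exact ((mem_Fx G).mp (hQF hq)).2 x hx
  -- (a)
  have hA : ∀ Δ : Finset α, Δ ⊆ Φ → Δ.card = j + 2 → ∀ R : Subgroup (Equiv.Perm α),
      IsPGroup 2 R → Q ≤ R → R ≤ G → (∀ r ∈ R, ∀ x ∈ Δ, r x = x) → R = Q := by
    intro Δ hΔΦ hΔc R hR2 hQR hRG hfix
    have h1 : R ≤ Fx G Δ := fun r hr => (mem_Fx G).mpr ⟨hRG hr, hfix r hr⟩
    have h2 : Nat.card R ∣ Nat.card (fixingSubgroup G (Δ : Set α)) := by
      rw [← card_Fx]; exact Subgroup.card_dvd_of_le h1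
    have h3 := card_dvd_two_pow hR2 Nat.card_pos.ne' h2
    have h4 : Nat.card R ∣ Nat.card Q := by
      rw [hQcard]
      exact h3.trans (pow_dvd_pow 2 (hmax Δ hΔc))
    exact (Subgroup.eq_of_le_of_card_ge hQR (Nat.le_of_dvd Nat.card_pos h4)).symm
  -- (b)
  have hB : ∀ Γ : Finset α, Γ ⊆ Φ → Γ.card = j + 1 → ∃ R : Subgroup (Equiv.Perm α),
      IsPGroup 2 R ∧ Q < R ∧ R ≤ G ∧ (∀ r ∈ R, ∀ x ∈ Γ, r x = x) := by
    intro Γ hΓΦ hΓc
    have hQF' : Q ≤ Fx G Γ := fun q hq =>
      (mem_Fx G).mpr ⟨hQG hq, fun x hx => (hΦ x).mp (hΓΦ hx) q hq⟩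
    have hQ'2 : IsPGroup 2 (Q.subgroupOf (Fx G Γ)) := hQ2.comap_subtype
    obtain ⟨S', hS'⟩ := hQ'2.exists_le_sylow
    refine ⟨(S' : Subgroup (Fx G Γ)).map (Fx G Γ).subtype, S'.2.map _, ?_, ?_, ?_⟩
    · have hle : Q ≤ (S' : Subgroup (Fx G Γ)).map (Fx G Γ).subtype := by
        intro q hq
        exact ⟨⟨q, hQF' hq⟩, hS' (Subgroup.mem_subgroupOf.mpr hq), rfl⟩
      refine lt_of_le_of_ne hle ?_
      intro heq
      have hc := card_sylow_Fx G Γ S'
      rw [← heq, hQcard] at hc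
      have h5 := Nat.pow_right_injective (le_refl 2) hc
      have h6 := hgap Γ hΓc
      omega
    · exact (Subgroup.map_subtype_le _).trans (fun g hg => ((mem_Fx G).mp hg).1)
    · intro r hr x hx
      exact ((mem_Fx G).mp (Subgroup.map_subtype_le _ hr)).2 x hx
  -- the swap lemma with `Γ₂ = D \ {a, b}`
  have hbe : b ∈ D.erase a := Finset.mem_erase.mpr ⟨hab.symm, hb⟩
  obtain ⟨g, hgG, hgfix, hgab, hgba⟩ :=
    Cfsg.Agent.Lib.Lead.Swap.swap_of_sylow_gap G Q hQG hQ2 j Φ hΦ hA hB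
      ((D.erase a).erase b)
      (fun x hx => hDΦ (Finset.mem_of_mem_erase (Finset.mem_of_mem_erase hx)))
      (by rw [Finset.card_erase_of_mem hbe, Finset.card_erase_of_mem ha, hD]; rfl)
      a b (hDΦ ha) (hDΦ hb) (by simp) (by simp) hab
  refine ⟨g, hgG, ?_, hgab, hgba⟩
  intro x hx hxa hxb
  exact hgfix x (by simp [hx, hxa, hxb])

/-- if all transpositions of `D` are induced, so is every permutation of `D` -/
theorem perm_induced_of_swaps (D : Finset α)
    (h : ∀ a ∈ D, ∀ b ∈ D, a ≠ b →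
      ∃ g ∈ G, (∀ x ∈ D, x ≠ a → x ≠ b → g x = x) ∧ g a = b ∧ g b = a)
    (σ : Equiv.Perm D) : ∃ g ∈ G, ∀ x : D, g (x : α) = σ x := by
  classical
  refine Equiv.Perm.swap_induction_on σ ⟨1, G.one_mem, fun x => rfl⟩ ?_
  intro f x y hxy ih
  obtain ⟨g, hg, hgf⟩ := ih
  obtain ⟨s, hs, hsfix, hsxy, hsyx⟩ := h x x.2 y y.2 (fun e => hxy (Subtype.ext e))
  refine ⟨s * g, G.mul_mem hs hg, fun z => ?_⟩
  rw [Equiv.Perm.mul_apply, hgf z, Equiv.Perm.mul_apply]
  by_cases h1 : f z = x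
  · rw [h1, Equiv.swap_apply_left, hsxy]
  · by_cases h2 : f z = y
    · rw [h2, Equiv.swap_apply_right, hsyx]
    · rw [Equiv.swap_apply_of_ne_of_ne h1 h2]
      exact hsfix _ (f z).2 (fun e => h1 (Subtype.ext e)) (fun e => h2 (Subtype.ext e))

end Cfsg.Agent.Lib.Helper5.LW
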