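import Mathlib
import Cfsg.Agent.Lib.Helper5.LW.SwapAll
import Cfsg.Agent.Lib.Helper5.LW.Count
import Cfsg.Agent.Lib.Lead.LWStep

/-!
# Livingstone–Wagner (S0748): glue

(author: helper5; plan by lead)  `tupInd G z`: the permutations of the coordinates of an injective tuple `z`
induced by `G`.  If it is everything and `G` is `k`-homogeneous then `G` is `k`-transitive.  Case (I) of S0748.
-/

set_option autoImplicit false
set_option linter.unusedVariables false
set_option linter.unusedSectionVars false
set_option linter.style.haveILetI false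
set_option linter.unusedSimpArgs false
set_option maxHeartbeats 1000000

namespace Cfsg.Agent.Lib.Helper5.LW

open MulAction
open scoped Pointwise

variable {α : Type*} [Fintype α] [DecidableEq α] (G : Subgroup (Equiv.Perm α)) {k : ℕ}

/-- permutations of the coordinates of an injective tuple induced by `G` -/
def tupInd (z : Fin k ↪ α) : Subgroup (Equiv.Perm (Fin k)) where
  carrier := {τ | ∃ g ∈ G, ∀ i, g (z i) = z (τ i)}
  mul_mem' := by
    rintro τ₁ τ₂ ⟨g₁, hg₁, h₁⟩ ⟨g₂, hg₂, h₂⟩
    refine ⟨g₁ * g₂, G.mul_mem hg₁ hg₂, fun i => ?_⟩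
    rw [Equiv.Perm.mul_apply, h₂, h₁, Equiv.Perm.mul_apply]
  one_mem' := ⟨1, G.one_mem, fun i => rfl⟩
  inv_mem' := by
    rintro τ ⟨g, hg, h⟩
    refine ⟨g⁻¹, G.inv_mem hg, fun i => ?_⟩
    rw [Equiv.Perm.inv_eq_iff_eq, h]
    show z i = z (τ (τ.symm i))
    rw [τ.apply_symm_apply]

theorem mem_tupInd {z : Fin k ↪ α} {τ : Equiv.Perm (Fin k)} :
    τ ∈ tupInd G z ↔ ∃ g ∈ G, ∀ i, g (z i) = z (τ i) := Iff.rfl

/-- `k`-homogeneous and all permutations of one `k`-tuple induced: `k`-transitive -/
theorem multiplyPretransitive_of_tupInd (hh : IsPretransitive G (Set.powersetCard α k))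
    (z : Fin k ↪ α) (htop : tupInd G z = ⊤) : IsMultiplyPretransitive G α k := by
  classical
  have key : ∀ x : Fin k ↪ α, ∃ g : G, ∀ i, g • x i = z i := by
    intro x
    have hcx : (Finset.univ.map x).card = k := by
      rw [Finset.card_map, Finset.card_univ, Fintype.card_fin]
    have hcz : (Finset.univ.map z).card = k := by
      rw [Finset.card_map, Finset.card_univ, Fintype.card_fin]
    obtain ⟨g, hg⟩ := hh.exists_smul_eq
      (⟨Finset.univ.map x, Set.powersetCard.mem_iff.mpr hcx⟩ : Set.powersetCard α k)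
      ⟨Finset.univ.map z, Set.powersetCard.mem_iff.mpr hcz⟩
    have h1 : g • (Finset.univ.map x) = Finset.univ.map z := by
      have := congrArg Subtype.val hg
      have e := Set.powersetCard.coe_smul (g := g)
        (s := (⟨Finset.univ.map x, Set.powersetCard.mem_iff.mpr hcx⟩ :
          Set.powersetCard α k))
      exact e.symm.trans this
    have h2 : ∀ i, ∃ i', z i' = g • x i := by
      intro i
      have : g • x i ∈ g • (Finset.univ.map x) :=
        Finset.smul_mem_smul_finset (Finset.mem_map_of_mem _ (Finset.mem_univ i))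
      rw [h1, Finset.mem_map] at this
      obtain ⟨i', -, hi'⟩ := this
      exact ⟨i', hi'⟩
    choose f hf using h2
    have hfinj : Function.Injective f := by
      intro i i' hii'
      have : g • x i = g • x i' := by rw [← hf i, ← hf i', hii']
      exact x.injective (smul_left_cancel g this)
    let σ : Equiv.Perm (Fin k) :=
      Equiv.ofBijective f ⟨hfinj, Finite.injective_iff_surjective.1 hfinj⟩
    have hmem : σ⁻¹ ∈ tupInd G z := by rw [htop]; trivial
    obtain ⟨g', hg'G, hg'⟩ := hmem
    refine ⟨⟨g', hg'G⟩ * g, fun i => ?_⟩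
    rw [mul_smul, ← hf i]
    show g' (z (f i)) = z i
    rw [hg' (f i)]
    show z (σ.symm (σ i)) = z i
    rw [σ.symm_apply_apply]
  refine ⟨fun x y => ?_⟩
  obtain ⟨g₁, h₁⟩ := key x
  obtain ⟨g₂, h₂⟩ := key y
  refine ⟨g₂⁻¹ * g₁, ?_⟩
  ext i
  rw [Function.Embedding.smul_apply, mul_smul, h₁ i, ← h₂ i, inv_smul_smul]

/-- all even permutations and one transposition: everything -/
theorem tupInd_eq_top (z : Fin k ↪ α) (halt : alternatingGroup (Fin k) ≤ tupInd G z)
    (p q : Fin k) (hpq : p ≠ q) (hsw : Equiv.swap p q ∈ tupInd G z) : tupInd G z = ⊤ := by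
  rw [eq_top_iff]
  intro τ _
  by_cases hτ : Equiv.Perm.sign τ = 1
  · exact halt (Equiv.Perm.mem_alternatingGroup.mpr hτ)
  · have h1 : Equiv.Perm.sign (τ * Equiv.swap p q) = 1 := by
      rw [Equiv.Perm.sign_mul, Equiv.Perm.sign_swap hpq]
      rcases Int.units_eq_one_or (Equiv.Perm.sign τ) with h | h
      · exact absurd h hτ
      · rw [h]; rfl
    have h2 := (tupInd G z).mul_mem (halt (Equiv.Perm.mem_alternatingGroup.mpr h1)) hsw
    rwa [mul_assoc, Equiv.swap_mul_self, mul_one] at h2

/-- from permutations of a finite subset (of a type embedded in `α`) to permutations of coordinates -/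
theorem le_tupInd_of_finset {β : Type*} [DecidableEq β] (ι : β ↪ α) (D : Finset β)
    (e : ↥D ≃ Fin k) (S : Subgroup (Equiv.Perm (Fin k)))
    (h : ∀ σ : Equiv.Perm ↥D, e.permCongr σ ∈ S → ∃ g ∈ G, ∀ x : D, g (ι x) = ι (σ x)) :
    S ≤ tupInd G ((e.symm.toEmbedding.trans (Function.Embedding.subtype _)).trans ι) := by
  intro τ hτ
  obtain ⟨g, hg, hgx⟩ := h (e.symm.permCongr τ) (by
    have : e.permCongr (e.symm.permCongr τ) = τ := by
      ext i
      simp [Equiv.permCongr_apply]
    rw [this]; exact hτ)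
  refine ⟨g, hg, fun i => ?_⟩
  simp only [Function.Embedding.trans_apply, Equiv.coe_toEmbedding,
    Function.Embedding.subtype_apply]
  rw [hgx (e.symm i)]
  simp [Equiv.permCongr_apply]

/-- **Case (I) of S0748**: the 2-part of `|G_(k-1 points)|` exceeds that of `|G_(k points)|`. -/
theorem lw748_caseI {j : ℕ} (hh : IsPretransitive G (Set.powersetCard α (j + 2)))
    {h d : ℕ}
    (hcard1 : ∀ s : Finset α, s.card = j + 1 → Nat.card (fixingSubgroup G (s : Set α)) = h)
    (hcard2 : ∀ s : Finset α, s.card = j + 2 → Nat.card (fixingSubgroup G (s : Set α)) = d)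
    (hgap : d.factorization 2 < h.factorization 2) (hn : j + 2 ≤ Fintype.card α) :
    IsMultiplyPretransitive G α (j + 2) := by
  classical
  obtain ⟨D, hD⟩ := Cfsg.Agent.Lib.Lead.LWStep.exists_finset_card (α := α) (j + 2) hn
  have hsw := swap_all G j D hD (fun D' hD' => by rw [hcard2 D' hD', hcard2 D hD])
    (fun S hS => by rw [hcard2 D hD, hcard1 S hS]; exact hgap)
  have hperm := perm_induced_of_swaps G D hsw
  let e : ↥D ≃ Fin (j + 2) := Fintype.equivFinOfCardEq (by rw [Fintype.card_coe, hD])
  have hle := le_tupInd_of_finset G (Function.Embedding.refl α) D e ⊤ (fun σ _ => hperm σ)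
  exact multiplyPretransitive_of_tupInd G hh _ (top_le_iff.mp hle)

end Cfsg.Agent.Lib.Helper5.LW
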