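import Mathlib
import Cfsg.Agent.Lib.Helper5.LW.Count
import Cfsg.Agent.Lib.Helper5.Hall4.End
import Cfsg.Agent.Lib.Lead.LWGlue
import Cfsg.Agent.Lib.Lead.Hall4D

/-!
# Livingstone–Wagner (S0748): case (II), the `(k-1)`-point stabilisers have odd order

(author: helper5; plan by lead)  `G` is `t`-transitive (`t ≥ 4`), `(t+1)`-homogeneous, `2 (t+1) ≤ n`, and
the pointwise stabilisers of `t`-sets have odd order `h`: impossible (Hall: `n - t + 4 = 11`, `h = a ^ 3`
divides `7!`, so `h = 1`, `|G| = 7920` or `95040`, not divisible by `C(11,5)` resp. `C(12,6)`).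
-/

set_option autoImplicit false
set_option linter.unusedVariables false
set_option linter.unusedSectionVars false
set_option linter.style.haveILetI false
set_option linter.unusedSimpArgs false
set_option maxHeartbeats 1000000

namespace Cfsg.Agent.Lib.Helper5.LW

open MulAction SubMulAction Cfsg.Agent.Lib.Lead.LWGlue

variable {α : Type*} [Fintype α] [DecidableEq α] (G : Subgroup (Equiv.Perm α))

/-- the pointwise stabiliser of `s` embeds in the symmetric group of the complement -/
theorem card_fixing_dvd_factorial (s : Finset α) :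
    Nat.card (fixingSubgroup G (s : Set α)) ∣ (Fintype.card α - s.card).factorial := by
  haveI := faithful_ofFixingSubgroup G s
  have hinj : Function.Injective (MulAction.toPermHom (fixingSubgroup G (s : Set α))
      (ofFixingSubgroup G (s : Set α))) := MulAction.toPerm_injective
  have := Subgroup.card_dvd_of_injective _ hinj
  rwa [Nat.card_perm, card_ofFixingSubgroup] at this

theorem cube_bound : ∀ a : ℕ, a ^ 3 ≤ 5040 → a ≤ 17 := by
  intro a ha
  by_contra hlt
  have h18 : 18 ≤ a := by omega
  have : 18 ^ 3 ≤ a ^ 3 := Nat.pow_le_pow_left h18 3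
  omega

variable {G}

/-- **Case (II) of S0748.** -/
theorem lw748_odd {t : ℕ} (ht4 : 4 ≤ t) (htr : IsMultiplyPretransitive G α t)
    (hh : IsPretransitive G (Set.powersetCard α (t + 1)))
    (hn : 2 * (t + 1) ≤ Fintype.card α) {h : ℕ}
    (hcard : ∀ u : Finset α, u.card = t → Nat.card (fixingSubgroup G (u : Set α)) = h)
    (hodd : Odd h) : False := by
  classical
  obtain ⟨s, -, hs⟩ := Finset.exists_subset_card_eq (s := (Finset.univ : Finset α)) (n := t - 4)
    (by rw [Finset.card_univ]; omega)
  have hs4 : s.card + 4 = t := by omega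
  have h4 : IsMultiplyPretransitive (fixingSubgroup G (s : Set α))
      (ofFixingSubgroup G (s : Set α)) 4 :=
    ofFixingSubgroup.isMultiplyPretransitive (G := G) (Hn := htr) (s : Set α)
      (by rw [Set.ncard_coe_finset]; exact hs4)
  have hoddc : ∀ (g : fixingSubgroup G (s : Set α)) (x : Fin 4 ↪ ofFixingSubgroup G (s : Set α)),
      (∀ i, g • x i = x i) → g ^ 2 = 1 → g = 1 := by
    intro g x hfix hg2
    obtain ⟨u, hu, hgu⟩ := exists_finset_of_fix G s g x hfix
    have hodd' : Odd (Nat.card (fixingSubgroup G (u : Set α))) := by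
      rw [hcard u (by omega)]; exact hodd
    have hg2' : (⟨(g : G), hgu⟩ : fixingSubgroup G (u : Set α)) ^ 2 = 1 := by
      apply Subtype.ext
      have := congrArg (fun z : fixingSubgroup G (s : Set α) => (z : G)) hg2
      simpa using this
    have := eq_one_of_sq_of_odd_card hodd' _ hg2'
    apply Subtype.ext
    have h3 := congrArg (fun z : fixingSubgroup G (u : Set α) => (z : G)) this
    simpa using h3
  haveI := faithful_ofFixingSubgroup G s
  haveI : Fintype (ofFixingSubgroup G (s : Set α)) := Fintype.ofFinite _
  have hΞ : Fintype.card (ofFixingSubgroup G (s : Set α)) = Fintype.card α - s.card := by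
    rw [← Nat.card_eq_fintype_card, card_ofFixingSubgroup]
  obtain ⟨x⟩ : Nonempty (Fin 4 ↪ ofFixingSubgroup G (s : Set α)) :=
    Function.Embedding.nonempty_of_card_le (by rw [Fintype.card_fin, hΞ]; omega)
  have hmain := Cfsg.Agent.Lib.Lead.Hall4.hall_main (T := fixingSubgroup G (s : Set α))
    (Ξ := ofFixingSubgroup G (s : Set α)) h4 hoddc
    (by rw [hΞ]; omega)
    (fun g hg => FaithfulSMul.eq_of_smul_eq_smul (α := ofFixingSubgroup G (s : Set α))
      (fun a => by rw [hg a, one_smul])) x
  rcases hmain with ⟨hN, -⟩ | ⟨hN, a, ha⟩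
  · rw [hΞ] at hN
    omega
  · rw [hΞ] at hN
    -- the stabiliser of `x` is the pointwise stabiliser of a `t`-set
    let e : Fin 4 ↪ α := ⟨fun i => ((x i : ofFixingSubgroup G (s : Set α)) : α), by
      intro i i' hii
      exact x.injective (Subtype.ext hii)⟩
    have hdisj : Disjoint s (Finset.univ.map e) := by
      rw [Finset.disjoint_left]
      intro y hy hb
      rw [Finset.mem_map] at hb
      obtain ⟨i, _, rfl⟩ := hb
      exact (x i).prop hy
    set u : Finset α := s.disjUnion (Finset.univ.map e) hdisj with hudef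
    have hucard : u.card = t := by
      rw [hudef, Finset.card_disjUnion, Finset.card_map, Finset.card_univ, Fintype.card_fin]
      exact hs4
    have hmemu : ∀ g : G, g ∈ fixingSubgroup G (u : Set α) ↔
        (g ∈ fixingSubgroup G (s : Set α) ∧ ∀ i, g • e i = e i) := by
      intro g
      rw [mem_fixingSubgroup_iff, mem_fixingSubgroup_iff]
      constructor
      · intro hg
        refine ⟨fun y hy => hg y ?_, fun i => hg (e i) ?_⟩
        · rw [hudef, Finset.mem_coe, Finset.mem_disjUnion]; exact Or.inl hy
        · rw [hudef, Finset.mem_coe, Finset.mem_disjUnion]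
          exact Or.inr (Finset.mem_map_of_mem _ (Finset.mem_univ i))
      · rintro ⟨h1, h2⟩ y hy
        rw [hudef, Finset.mem_coe, Finset.mem_disjUnion] at hy
        rcases hy with hy | hy
        · exact h1 y hy
        · rw [Finset.mem_map] at hy
          obtain ⟨i, _, rfl⟩ := hy
          exact h2 i
    have hNc : Nat.card {g : fixingSubgroup G (s : Set α) // ∀ i, g • x i = x i} =
        Nat.card (fixingSubgroup G (u : Set α)) := by
      refine Nat.card_congr
        ⟨fun g => ⟨g.1.1, (hmemu _).mpr ⟨g.1.2, fun i => ?_⟩⟩,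
         fun g' => ⟨⟨g'.1, ((hmemu _).mp g'.2).1⟩, fun i => ?_⟩, fun g => rfl, fun g' => rfl⟩
      · have := congrArg (fun z : ofFixingSubgroup G (s : Set α) => (z : α)) (g.2 i)
        exact this
      · apply Subtype.ext
        exact ((hmemu _).mp g'.2).2 i
    rw [hNc, hcard u hucard] at ha
    -- `h = a ^ 3` divides `7!`
    have hdvd := card_fixing_dvd_factorial G u
    rw [hcard u hucard, hucard] at hdvd
    have hnt : Fintype.card α - t = 7 := by omega
    rw [hnt] at hdvd
    have h5040 : Nat.factorial 7 = 5040 := by decide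
    rw [h5040, ha] at hdvd
    have hle : a ^ 3 ≤ 5040 := Nat.le_of_dvd (by norm_num) hdvd
    have ha17 := cube_bound a hle
    have hodd3 : a ^ 3 % 2 = 1 := by rw [← ha]; exact Nat.odd_iff.mp hodd
    have ha1 := Cfsg.Agent.Lib.Helper5.Hall4.cube_aux a ha17 hdvd hodd3
    have hh1 : h = 1 := by rw [ha, ha1]; norm_num
    -- orders
    have htn : t ≤ Fintype.card α := by omega
    have hG1 := card_eq_descFactorial_mul htr u hucard htn
    rw [hcard u hucard, hh1, mul_one] at hG1
    obtain ⟨D, hD⟩ : ∃ D : Finset α, D.card = t + 1 := by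
      obtain ⟨D, -, hD⟩ := Finset.exists_subset_card_eq (s := (Finset.univ : Finset α))
        (n := t + 1) (by rw [Finset.card_univ]; omega)
      exact ⟨D, hD⟩
    have hG2 := card_eq_choose_mul_stabilizer G hh D hD
    have hdiv : (Fintype.card α).choose (t + 1) ∣ (Fintype.card α).descFactorial t := by
      rw [← hG1, hG2]; exact dvd_mul_right _ _
    have ht5 : t = 4 ∨ t = 5 := by omega
    rcases ht5 with rfl | rfl
    · have hn11 : Fintype.card α = 11 := by omega
      rw [hn11] at hdiv
      revert hdiv
      decide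
    · have hn12 : Fintype.card α = 12 := by omega
      rw [hn12] at hdiv
      revert hdiv
      decide

end Cfsg.Agent.Lib.Helper5.LW
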