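import Mathlib
import Cfsg.Agent.Lib.Helper5.LW.Lw748A
import Cfsg.Agent.Lib.Helper8.LwWittA

/-!
# Livingstone–Wagner (S0748): case (III)

(author: helper5; plan by lead, Witt package by helper8)  `|G_(k-1 points)|` even with the same 2-part as
`|G_(k points)|`: a Sylow 2-subgroup `Q` of a `k`-point stabiliser, `Φ = Fix Q`; `N_G(Q)` induces on `Φ` a
`(k-1)`-transitive group without involutions fixing `k-1` points, so (step (O) of S0747, passed in as a
hypothesis) some `k`-subset of `Φ` carries all even permutations; an involution of a `(k-1)`-point stabiliser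
supplies a transposition.
-/

set_option autoImplicit false
set_option linter.unusedVariables false
set_option linter.unusedSectionVars false
set_option linter.style.haveILetI false
set_option linter.unusedSimpArgs false
set_option maxHeartbeats 1000000

namespace Cfsg.Agent.Lib.Helper5.LW

open MulAction
open scoped Pointwise

universe u

variable {α : Type u} [Fintype α] [DecidableEq α] (G : Subgroup (Equiv.Perm α))

/-- an involution in a `t`-point stabiliser gives a transposition of the coordinates of any `(t+1)`-tuple -/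
theorem exists_swap_mem_tupInd {t : ℕ} (ht : 1 ≤ t)
    (hh : IsPretransitive G (Set.powersetCard α (t + 1)))
    (Γ : Finset α) (hΓ : Γ.card = t) (heven : Even (Nat.card (fixingSubgroup G (Γ : Set α))))
    (z : Fin (t + 1) ↪ α) : ∃ p q : Fin (t + 1), p ≠ q ∧ Equiv.swap p q ∈ tupInd G z := by
  classical
  haveI : Fact (Nat.Prime 2) := ⟨Nat.prime_two⟩
  obtain ⟨u, hu⟩ := exists_prime_orderOf_dvd_card' (G := fixingSubgroup G (Γ : Set α)) 2
    (even_iff_two_dvd.mp heven)
  set u' : Equiv.Perm α := ((u : G) : Equiv.Perm α) with hu'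
  have hu'G : u' ∈ G := (u : G).2
  have hu2 : u' * u' = 1 := by
    have h1 : u ^ 2 = 1 := by rw [← hu]; exact pow_orderOf_eq_one u
    have h2 := congrArg (fun z : fixingSubgroup G (Γ : Set α) => ((z : G) : Equiv.Perm α)) h1
    simpa [pow_two] using h2
  have hune : u' ≠ 1 := by
    intro h1
    have : u = 1 := by apply Subtype.ext; apply Subtype.ext; exact h1
    rw [this, orderOf_one] at hu
    omega
  have hufix : ∀ y ∈ Γ, u' y = y := fun y hy =>
    (mem_fixingSubgroup_iff G).mp u.2 y (by exact_mod_cast hy)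
  obtain ⟨a, ha⟩ : ∃ a, u' a ≠ a := by
    by_contra hcon
    push_neg at hcon
    exact hune (Equiv.ext hcon)
  obtain ⟨b, hb⟩ : ∃ b, b = u' a := ⟨_, rfl⟩
  have hub : u' b = a := by
    have := congrArg (fun f : Equiv.Perm α => f a) hu2
    rw [hb]
    simpa using this
  have hab : a ≠ b := fun e => ha (by rw [← hb, ← e])
  have haΓ : a ∉ Γ := fun hmem => ha (hufix a hmem)
  have hbΓ : b ∉ Γ := by
    intro hmem
    have h1 := hufix b hmem
    rw [hub] at h1
    exact hab h1
  obtain ⟨c, hc⟩ : ∃ c, c ∈ Γ := by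
    apply Finset.card_pos.mp; omega
  obtain ⟨Δ, hΔdef⟩ : ∃ Δ : Finset α, Δ = insert a (insert b (Γ.erase c)) := ⟨_, rfl⟩
  have hΔmem : ∀ y, y ∈ Δ → y = a ∨ y = b ∨ y ∈ Γ := by
    intro y hy
    rw [hΔdef, Finset.mem_insert, Finset.mem_insert] at hy
    rcases hy with h | h | h
    · exact Or.inl h
    · exact Or.inr (Or.inl h)
    · exact Or.inr (Or.inr (Finset.mem_of_mem_erase h))
  have haΔ : a ∈ Δ := by rw [hΔdef]; exact Finset.mem_insert_self _ _
  have hbΔ : b ∈ Δ := by
    rw [hΔdef]; exact Finset.mem_insert_of_mem (Finset.mem_insert_self _ _)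
  have hΔcard : Δ.card = t + 1 := by
    rw [hΔdef, Finset.card_insert_of_notMem, Finset.card_insert_of_notMem,
      Finset.card_erase_of_mem hc, hΓ]
    · omega
    · exact fun hm => hbΓ (Finset.mem_of_mem_erase hm)
    · rw [Finset.mem_insert]
      rintro (h | h)
      · exact hab h
      · exact haΓ (Finset.mem_of_mem_erase h)
  have hcz : (Finset.univ.map z).card = t + 1 := by
    rw [Finset.card_map, Finset.card_univ, Fintype.card_fin]
  obtain ⟨g, hg⟩ := hh.exists_smul_eq
    (⟨Δ, Set.powersetCard.mem_iff.mpr hΔcard⟩ : Set.powersetCard α (t + 1))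
    ⟨Finset.univ.map z, Set.powersetCard.mem_iff.mpr hcz⟩
  have h1 : g • Δ = Finset.univ.map z := by
    have := congrArg Subtype.val hg
    have e := Set.powersetCard.coe_smul (g := g)
      (s := (⟨Δ, Set.powersetCard.mem_iff.mpr hΔcard⟩ : Set.powersetCard α (t + 1)))
    exact e.symm.trans this
  set g' : Equiv.Perm α := (g : Equiv.Perm α) with hg'
  have hidx : ∀ y ∈ Δ, ∃ i, z i = g' y := by
    intro y hy
    have : g • y ∈ g • Δ := Finset.smul_mem_smul_finset hy
    rw [h1, Finset.mem_map] at this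
    obtain ⟨i, -, hi⟩ := this
    exact ⟨i, hi⟩
  have hpre : ∀ i, ∃ y ∈ Δ, g' y = z i := by
    intro i
    have : z i ∈ g • Δ := by rw [h1]; exact Finset.mem_map_of_mem _ (Finset.mem_univ i)
    rw [Finset.mem_smul_finset] at this
    obtain ⟨y, hy, hyz⟩ := this
    exact ⟨y, hy, hyz⟩
  obtain ⟨p, hp⟩ := hidx a haΔ
  obtain ⟨q, hq⟩ := hidx b hbΔ
  have hpq : p ≠ q := by
    intro e
    rw [e, hq] at hp
    exact hab (g'.injective hp).symm
  refine ⟨p, q, hpq, g' * u' * g'⁻¹, G.mul_mem (G.mul_mem g.2 hu'G) (G.inv_mem g.2), fun i => ?_⟩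
  obtain ⟨y, hyΔ, hy⟩ := hpre i
  have hinv : g'⁻¹ (z i) = y := by
    rw [Equiv.Perm.inv_eq_iff_eq, hy]
  rw [Equiv.Perm.mul_apply, Equiv.Perm.mul_apply, hinv]
  rcases hΔmem y hyΔ with rfl | rfl | hyΓ
  · -- `y = a`
    have hip : i = p := z.injective (by rw [hp, hy])
    rw [hip, Equiv.swap_apply_left, ← hb, hq]
  · -- `y = b`
    have hiq : i = q := z.injective (by rw [hq, hy])
    rw [hiq, Equiv.swap_apply_right, hub, hp]
  · have hip : i ≠ p := by
      intro e
      rw [e, hp] at hy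
      have := g'.injective hy
      rw [this] at hyΓ
      exact haΓ hyΓ
    have hiq : i ≠ q := by
      intro e
      rw [e, hq] at hy
      have := g'.injective hy
      rw [this] at hyΓ
      exact hbΓ hyΓ
    rw [Equiv.swap_apply_of_ne_of_ne hip hiq, hufix y hyΓ, hy]

open Cfsg.Agent.Lib.Helper8.LW747 in
/-- **Case (III) of S0748.**  `hO` is step (O) of S0747 (helper8's `alt_of_odd`). -/
theorem lw748_caseIII {t : ℕ} (ht4 : 4 ≤ t)
    (htr : IsMultiplyPretransitive G α t)
    (hh : IsPretransitive G (Set.powersetCard α (t + 1)))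
    (hn : t + 1 ≤ Fintype.card α) {h d : ℕ}
    (hcard1 : ∀ s : Finset α, s.card = t → Nat.card (fixingSubgroup G (s : Set α)) = h)
    (hcard2 : ∀ s : Finset α, s.card = t + 1 → Nat.card (fixingSubgroup G (s : Set α)) = d)
    (heq : d.factorization 2 = h.factorization 2) (heven : Even h)
    (hO : ∀ (β : Type u) [Fintype β] [DecidableEq β] (Y : Subgroup (Equiv.Perm β)),
      t < Fintype.card β → IsMultiplyPretransitive Y β t →
      (∀ (g : Y) (x : Fin t ↪ β), (∀ i, g • x i = x i) → g ^ 2 = 1 → g = 1) →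
      ∃ D : Finset β, D.card = t + 1 ∧ ∀ σ : Equiv.Perm D, σ ∈ alternatingGroup D →
        ∃ g ∈ Y, ∀ x : D, g (x : β) = σ x) :
    IsMultiplyPretransitive G α (t + 1) := by
  classical
  haveI : Fact (Nat.Prime 2) := ⟨Nat.prime_two⟩
  obtain ⟨D₀, hD₀⟩ := Cfsg.Agent.Lib.Lead.LWStep.exists_finset_card (α := α) (t + 1) hn
  obtain ⟨Γ, hΓ⟩ := Cfsg.Agent.Lib.Lead.LWStep.exists_finset_card (α := α) t (by omega)
  obtain ⟨P⟩ : Nonempty (Sylow 2 (Fx G D₀)) := inferInstance
  set Q : Subgroup (Equiv.Perm α) := (P : Subgroup (Fx G D₀)).map (Fx G D₀).subtype with hQ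
  have hQcard : Nat.card Q = 2 ^ h.factorization 2 := by
    rw [hQ, card_sylow_Fx G D₀ P, hcard2 D₀ hD₀, heq]
  have hQF : Q ≤ Fx G D₀ := by
    rw [hQ]; exact Subgroup.map_subtype_le _
  have hQG : Q ≤ G := fun q hq => ((mem_Fx G).mp (hQF hq)).1
  set Φ : Finset α := Finset.univ.filter (fun x => ∀ q ∈ Q, q x = x) with hΦdef
  have hΦ : ∀ x, x ∈ Φ ↔ ∀ q ∈ Q, q x = x := by
    intro x; simp [hΦdef]
  have hDΦ : D₀ ⊆ Φ := by
    intro x hx
    rw [hΦ]
    intro q hq
    exact ((mem_Fx G).mp (hQF hq)).2 x hx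
  have hsyl : ∀ S : Finset α, S ⊆ Φ → S.card = t →
      Nat.card Q = 2 ^ (Nat.card (fixingSubgroup G (S : Set α))).factorization 2 := by
    intro S _ hS
    rw [hcard1 S hS, hQcard]
  have hY := normImage_pretransitive G Q hQG Φ hΦ 2 t htr hsyl
  have hoddY : ∀ (σ : normImage G Q Φ) (x : Fin t ↪ ↥Φ), (∀ i, σ • x i = x i) → σ ^ 2 = 1 →
      σ = 1 := fun σ x hx hσ => normImage_noInv G Q hQG Φ hΦ t hsyl σ x hx hσ
  have hΦcard : t < Fintype.card ↥Φ := by
    rw [Fintype.card_coe]
    have := Finset.card_le_card hDΦ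
    omega
  obtain ⟨D', hD', halt⟩ := hO ↥Φ (normImage G Q Φ) hΦcard hY hoddY
  let e : ↥D' ≃ Fin (t + 1) := Fintype.equivFinOfCardEq (by rw [Fintype.card_coe, hD'])
  have hle := le_tupInd_of_finset G (Function.Embedding.subtype (fun x => x ∈ Φ)) D' e
    (alternatingGroup (Fin (t + 1))) (fun σ hσ => by
      have hs : σ ∈ alternatingGroup ↥D' := by
        rw [Equiv.Perm.mem_alternatingGroup] at hσ ⊢
        rwa [Equiv.Perm.sign_permCongr] at hσ
      obtain ⟨y, hyY, hy⟩ := halt σ hs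
      obtain ⟨g, hgG, -, hg⟩ := mem_normImage.mp hyY
      refine ⟨g, hgG, fun x => ?_⟩
      show g ((x : ↥Φ) : α) = ((σ x : ↥Φ) : α)
      rw [hg (x : ↥Φ), hy x])
  obtain ⟨p, q, hpq, hsw⟩ := exists_swap_mem_tupInd G (by omega) hh Γ hΓ
    (by rw [hcard1 Γ hΓ]; exact heven)
    ((e.symm.toEmbedding.trans (Function.Embedding.subtype _)).trans
      (Function.Embedding.subtype (fun x => x ∈ Φ)))
  exact multiplyPretransitive_of_tupInd G hh _ (tupInd_eq_top G _ hle p q hpq hsw)

end Cfsg.Agent.Lib.Helper5.LW
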