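import Mathlib

/-!
# Subgroups of small index in symmetric groups (towards S0745)

(author: helper5)  For `m ≥ 5`, a subgroup of `Perm β`, `|β| = m`, of index `r > 2` has `r ≥ m`.
-/

set_option autoImplicit false
set_option linter.unusedVariables false
set_option linter.unusedSectionVars false
set_option linter.style.haveILetI false
set_option maxHeartbeats 1000000

namespace Cfsg.Agent.Lib.Helper5.LW

open Equiv MulAction

/-- a subgroup of `Perm β` (`|β| ≥ 5`) of index `> 2` has index `≥ |β|` -/
theorem card_le_index_of_two_lt_index {β : Type*} [Fintype β] [DecidableEq β]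
    (hβ : 5 ≤ Fintype.card β) (U : Subgroup (Perm β)) (h2 : 2 < U.index) :
    Fintype.card β ≤ U.index := by
  classical
  by_contra hlt
  push Not at hlt
  haveI : Nontrivial β := Fintype.one_lt_card_iff_nontrivial.1 (by omega)
  -- the normal core has index dividing `r!`
  have hN : U.normalCore.index ∣ U.index.factorial := by
    rw [Subgroup.normalCore_eq_ker, Subgroup.index_ker, Subgroup.index_eq_card, ← Nat.card_perm]
    exact Subgroup.card_subgroup_dvd_card (toPermHom (Perm β) (Perm β ⧸ U)).range
  haveI : IsSimpleGroup (alternatingGroup β) :=
    alternatingGroup.isSimpleGroup (by rw [Nat.card_eq_fintype_card]; exact hβ)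
  have hnorm : (U.normalCore.subgroupOf (alternatingGroup β)).Normal := inferInstance
  rcases hnorm.eq_bot_or_eq_top with hbot | htop
  · -- the core meets `Alt` trivially, so has order at most 2
    rw [Subgroup.subgroupOf_eq_bot] at hbot
    have hinj : Function.Injective (Perm.sign.comp U.normalCore.subtype) := by
      rw [injective_iff_map_eq_one]
      intro x hx
      have hx' : Perm.sign (x : Perm β) = 1 := hx
      have hxA : (x : Perm β) ∈ alternatingGroup β := Perm.mem_alternatingGroup.2 hx'
      have : (x : Perm β) ∈ U.normalCore ⊓ alternatingGroup β := ⟨x.2, hxA⟩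
      rw [hbot.eq_bot, Subgroup.mem_bot] at this
      exact Subtype.ext this
    have hcard : Nat.card U.normalCore ∣ 2 := by
      have := Subgroup.card_dvd_of_injective _ hinj
      rwa [Nat.card_eq_fintype_card (α := ℤˣ), Fintype.card_units_int] at this
    have hle2 : Nat.card U.normalCore ≤ 2 := Nat.le_of_dvd (by norm_num) hcard
    have hidx : U.normalCore.index ≤ U.index.factorial :=
      Nat.le_of_dvd (Nat.factorial_pos _) hN
    have htot : Nat.card U.normalCore * U.normalCore.index = (Fintype.card β).factorial := by
      rw [Subgroup.card_mul_index, Nat.card_perm, Nat.card_eq_fintype_card]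
    have hfac : U.index.factorial ≤ (Fintype.card β - 1).factorial :=
      Nat.factorial_le (by omega)
    have hm : (Fintype.card β).factorial
        = Fintype.card β * (Fintype.card β - 1).factorial := by
      obtain ⟨k, hk⟩ : ∃ k, Fintype.card β = k + 1 := ⟨Fintype.card β - 1, by omega⟩
      rw [hk, Nat.factorial_succ, Nat.add_sub_cancel]
    have hpos : 0 < (Fintype.card β - 1).factorial := Nat.factorial_pos _
    have : Fintype.card β * (Fintype.card β - 1).factorial
        ≤ 2 * (Fintype.card β - 1).factorial := by
      rw [← hm, ← htot]
      exact Nat.mul_le_mul hle2 (hidx.trans hfac)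
    have := Nat.le_of_mul_le_mul_right this hpos
    omega
  · -- the core contains `Alt`, so `U` has index at most 2
    rw [Subgroup.subgroupOf_eq_top] at htop
    have hle : alternatingGroup β ≤ U := htop.trans U.normalCore_le
    have := Subgroup.index_dvd_of_le hle
    rw [alternatingGroup.index_eq_two] at this
    have := Nat.le_of_dvd (by norm_num) this
    omega

end Cfsg.Agent.Lib.Helper5.LW
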