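import Mathlib
import Cfsg.Agent.Lib.Helper5.LW.Count
import Cfsg.Agent.Lib.Lead.LWStep

/-!
# Livingstone–Wagner (towards S0745): the cases `j ≤ 3`, and the identification of `A_n`

(author: helper5)  Numerics from `lw_count` for `j ≤ 3`; the parameter sets `(j, n, h) = (2, 11, 3)`,
`(3, 12, 3)`, `(3, 24, 7)`, `(3, 7, 1)` are killed by lead's `lw_small`; what remains is the list of
S0745.  Also: a subgroup of `Perm α` of order `n!/2` is the alternating group.
-/

set_option autoImplicit false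
set_option linter.unusedVariables false
set_option linter.unusedSectionVars false
set_option linter.style.haveILetI false
set_option linter.unusedSimpArgs false
set_option maxHeartbeats 1000000

namespace Cfsg.Agent.Lib.Helper5.LW

open MulAction

/-- The hypothesis side of the numerical check for `j ≤ 3`. -/
def smallHyp (j r h : ℕ) : Prop :=
  1 ≤ j ∧ 2 ≤ r ∧ r ∣ (j + 1).factorial ∧ r * (r * h - 1) ∣ (j + 2).factorial ∧ h % 2 = 1

instance (j r h : ℕ) : Decidable (smallHyp j r h) := by unfold smallHyp; infer_instance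

/-- The conclusion side of the numerical check for `j ≤ 3`. -/
def smallConcl (j r h : ℕ) : Prop :=
  (r = 2 ∧ h = 1) ∨ (j = 2 ∧ r = 3 ∧ h = 1) ∨ (j = 2 ∧ r = 3 ∧ h = 3) ∨
  (j = 3 ∧ r = 2 ∧ h = 3) ∨ (j = 3 ∧ r = 3 ∧ h = 1) ∨ (j = 3 ∧ r = 3 ∧ h = 3) ∨
  (j = 3 ∧ r = 3 ∧ h = 7) ∨ (j = 3 ∧ r = 4 ∧ h = 1) ∨ (j = 3 ∧ r = 6 ∧ h = 1)

instance (j r h : ℕ) : Decidable (smallConcl j r h) := by unfold smallConcl; infer_instance

/-- Finite check behind the numerics for `j ≤ 3`. -/
theorem small_check : ∀ j < 4, ∀ r < 25, ∀ h < 62, smallHyp j r h → smallConcl j r h := by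
  decide +kernel

theorem small_numerics {j r h : ℕ} (hj : 1 ≤ j) (hj3 : j ≤ 3) (hr : 2 ≤ r)
    (hr1 : r ∣ (j + 1).factorial) (hr2 : r * (r * h - 1) ∣ (j + 2).factorial)
    (hodd : Odd h) : smallConcl j r h := by
  have hf1 : (j + 1).factorial ≤ 24 := by
    have : (j + 1).factorial ≤ (4 : ℕ).factorial := Nat.factorial_le (by omega)
    have h4 : (4 : ℕ).factorial = 24 := by decide
    omega
  have hf2 : (j + 2).factorial ≤ 120 := by
    have : (j + 2).factorial ≤ (5 : ℕ).factorial := Nat.factorial_le (by omega)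
    have h5 : (5 : ℕ).factorial = 120 := by decide
    omega
  have hr24 : r ≤ 24 := le_trans (Nat.le_of_dvd (Nat.factorial_pos _) hr1) hf1
  have hrh : r * (r * h - 1) ≤ 120 := le_trans (Nat.le_of_dvd (Nat.factorial_pos _) hr2) hf2
  have hh : h ≤ 61 := by
    by_contra hc
    push Not at hc
    have h1 : 2 * 62 ≤ r * h := Nat.mul_le_mul hr (by omega)
    have h2 : 2 * (2 * 62 - 1) ≤ r * (r * h - 1) := Nat.mul_le_mul hr (by omega)
    omega
  have hodd' : h % 2 = 1 := Nat.odd_iff.mp hodd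
  exact small_check j (by omega) r (by omega) h (by omega) ⟨hj, hr, hr1, hr2, hodd'⟩

variable {α : Type*} [Fintype α] [DecidableEq α] {G : Subgroup (Equiv.Perm α)}

/-- a subgroup of `Perm α` of order `n!/2` is the alternating group -/
theorem eq_alternatingGroup_of_card (hG : 2 * Nat.card G = (Fintype.card α).factorial) :
    G = alternatingGroup α := by
  apply Equiv.Perm.eq_alternatingGroup_of_index_eq_two
  have h1 := G.index_mul_card
  rw [Nat.card_eq_fintype_card (α := Equiv.Perm α), Fintype.card_perm, ← hG] at h1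
  have hpos : 0 < Nat.card G := Nat.card_pos
  exact Nat.eq_of_mul_eq_mul_right hpos h1

/-- `n = j + 2` and `|G| = n (n-1) ⋯ 3`: the alternating group -/
theorem eq_alternatingGroup_of_descFactorial {j : ℕ} (hn : Fintype.card α = j + 2)
    (hG : Nat.card G = (Fintype.card α).descFactorial j) : G = alternatingGroup α := by
  apply eq_alternatingGroup_of_card
  have h := Nat.factorial_mul_descFactorial (n := Fintype.card α) (k := j) (by omega)
  have h2 : Fintype.card α - j = 2 := by omega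
  rw [h2] at h
  rw [hG, ← h]
  rfl

/-- **Livingstone–Wagner, the exceptions, for `j ≤ 3`.** -/
theorem lw_small_cases {j : ℕ} (hj1 : 1 ≤ j) (hj3 : j ≤ 3)
    (ht : IsMultiplyPretransitive G α j) (hnt : ¬ IsMultiplyPretransitive G α (j + 1))
    (hh1 : IsPretransitive G (Set.powersetCard α (j + 1)))
    (hh2 : IsPretransitive G (Set.powersetCard α (j + 2)))
    (hjn : j + 2 ≤ Fintype.card α) :
    (Fintype.card α = j + 2 ∧ G = alternatingGroup α) ∨
    (j = 2 ∧ Fintype.card α = 5 ∧ Nat.card G = 20) ∨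
    (j = 3 ∧ Fintype.card α = 6 ∧ Nat.card G = 120) ∨
    (j = 3 ∧ Fintype.card α = 9 ∧ (Nat.card G = 504 ∨ Nat.card G = 1512)) := by
  classical
  obtain ⟨r, h, hcard, hbot, hr2, hodd, hrh, hr1, hr2', hG, -, -, -⟩ :=
    lw_count ht hnt hh1 hh2 hjn
  rcases small_numerics hj1 hj3 hr2 hr1 hr2' hodd with
    ⟨rfl, rfl⟩ | ⟨rfl, rfl, rfl⟩ | ⟨rfl, rfl, rfl⟩ | ⟨rfl, rfl, rfl⟩ | ⟨rfl, rfl, rfl⟩ |
    ⟨rfl, rfl, rfl⟩ | ⟨rfl, rfl, rfl⟩ | ⟨rfl, rfl, rfl⟩ | ⟨rfl, rfl, rfl⟩
  · -- `(r, h) = (2, 1)`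
    left
    have hn : Fintype.card α = j + 2 := by omega
    exact ⟨hn, eq_alternatingGroup_of_descFactorial hn (by rw [hG, mul_one])⟩
  · -- `j = 2`, `(3, 1)`: `n = 5`, `|G| = 20`
    right; left
    have hn : Fintype.card α = 5 := by omega
    rw [hn] at hG
    exact ⟨rfl, hn, by rw [hG]; rfl⟩
  · -- `j = 2`, `(3, 3)`: `n = 11`
    exfalso
    haveI : Fact (Nat.Prime 3) := ⟨by norm_num⟩
    haveI : Fact (Nat.Prime 5) := ⟨by norm_num⟩
    exact Cfsg.Agent.Lib.Lead.LWStep.lw_small G (j := 2) (h := 3) (q := 3) (p := 5) (by omega)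
      ht hbot hcard rfl (by omega) (by omega) (by omega) (by omega) (by omega) (by norm_num)
  · -- `j = 3`, `(2, 3)`: `n = 9`, `|G| = 1512`
    right; right; right
    have hn : Fintype.card α = 9 := by omega
    rw [hn] at hG
    exact ⟨rfl, hn, Or.inr (by rw [hG]; rfl)⟩
  · -- `j = 3`, `(3, 1)`: `n = 6`, `|G| = 120`
    right; right; left
    have hn : Fintype.card α = 6 := by omega
    rw [hn] at hG
    exact ⟨rfl, hn, by rw [hG]; rfl⟩
  · -- `j = 3`, `(3, 3)`: `n = 12`
    exfalso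
    haveI : Fact (Nat.Prime 3) := ⟨by norm_num⟩
    haveI : Fact (Nat.Prime 5) := ⟨by norm_num⟩
    exact Cfsg.Agent.Lib.Lead.LWStep.lw_small G (j := 3) (h := 3) (q := 3) (p := 5) (by omega)
      ht hbot hcard rfl (by omega) (by omega) (by omega) (by omega) (by omega) (by norm_num)
  · -- `j = 3`, `(3, 7)`: `n = 24`
    exfalso
    haveI : Fact (Nat.Prime 7) := ⟨by norm_num⟩
    haveI : Fact (Nat.Prime 11) := ⟨by norm_num⟩
    exact Cfsg.Agent.Lib.Lead.LWStep.lw_small G (j := 3) (h := 7) (q := 7) (p := 11) (by omega)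
      ht hbot hcard rfl (by omega) (by omega) (by omega) (by omega) (by omega) (by norm_num)
  · -- `j = 3`, `(4, 1)`: `n = 7`, `|G| = 210`; use `lw_small` at level `2`
    exfalso
    have hn : Fintype.card α = 7 := by omega
    rw [hn] at hG
    have hG210 : Nat.card G = 210 := by rw [hG]; rfl
    haveI := ht
    have ht2 : IsMultiplyPretransitive G α 2 :=
      isMultiplyPretransitive_of_le (n := 3) (by omega) (by rw [Nat.card_eq_fintype_card]; omega)
    have hbot2 : ∀ u : Finset α, u.card = 2 + 1 → fixingSubgroup G (u : Set α) = ⊥ := by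
      intro u hu
      exact Subgroup.card_eq_one.1 (hcard u hu)
    have hcard2 : ∀ u : Finset α, u.card = 2 → Nat.card (fixingSubgroup G (u : Set α)) = 5 := by
      intro u hu
      have h2 := card_eq_descFactorial_mul ht2 u hu (by omega)
      rw [hG210, hn] at h2
      have h42 : Nat.descFactorial 7 2 = 42 := rfl
      rw [h42] at h2
      omega
    haveI : Fact (Nat.Prime 5) := ⟨by norm_num⟩
    haveI : Fact (Nat.Prime 3) := ⟨by norm_num⟩
    exact Cfsg.Agent.Lib.Lead.LWStep.lw_small G (j := 2) (h := 5) (q := 5) (p := 3) (by omega)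
      ht2 hbot2 hcard2 rfl (by omega) (by omega) (by omega) (by omega) (by omega) (by norm_num)
  · -- `j = 3`, `(6, 1)`: `n = 9`, `|G| = 504`
    right; right; right
    have hn : Fintype.card α = 9 := by omega
    rw [hn] at hG
    exact ⟨rfl, hn, Or.inl (by rw [hG]; rfl)⟩

end Cfsg.Agent.Lib.Helper5.LW
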